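import Cfsg.Agent.Fischer.Iface

/-!
Graph isomorphisms between sets of 3-transpositions, the quotient of a primitive set by the centre, and the moves
available in a primitive class.
-/

set_option autoImplicit false
set_option linter.unusedSectionVars false

namespace Cfsg.Lib.Fischer

open Cfsg Subgroup Cfsg.Lib.ThreeTr
open Cfsg.Lib.PrimeGraph (KQuad)

universe u v

variable {G : Type u} [Group G] {G' : Type v} [Group G'] {S : Set G} {S' : Set G'} {f : G → G'}

/-- A bijection respecting commutation. -/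
structure GraphIso (S : Set G) (S' : Set G') (f : G → G') : Prop where
  bij : Set.BijOn f S S'
  comm : ∀ x ∈ S, ∀ y ∈ S, (Commute (f x) (f y) ↔ Commute x y)

namespace GraphIso

theorem mem (h : GraphIso S S' f) {x : G} (hx : x ∈ S) : f x ∈ S' := h.bij.mapsTo hx

theorem eq_iff (h : GraphIso S S' f) {x y : G} (hx : x ∈ S) (hy : y ∈ S) : f x = f y ↔ x = y :=
  ⟨h.bij.injOn hx hy, congrArg f⟩

theorem mem_perp (h : GraphIso S S' f) {x y : G} (hx : x ∈ S) (hy : y ∈ S) :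
    f y ∈ perp S' (f x) ↔ y ∈ perp S x := by
  simp [perp, hy, h.mem hy, h.comm x hx y hy, h.eq_iff hy hx]

theorem restrict (h : GraphIso S S' f) {T : Set G} (hT : T ⊆ S) {T' : Set G'}
    (hT' : ∀ x ∈ S, f x ∈ T' ↔ x ∈ T) (hsub : T' ⊆ S') : GraphIso T T' f where
  bij := ⟨fun x hx => (hT' x (hT hx)).2 hx, h.bij.injOn.mono hT, fun y hy => by
    obtain ⟨x, hx, rfl⟩ := h.bij.surjOn (hsub hy)
    exact ⟨x, (hT' x hx).1 hy, rfl⟩⟩
  comm x hx y hy := h.comm x (hT hx) y (hT hy)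

theorem perp (h : GraphIso S S' f) {x : G} (hx : x ∈ S) : GraphIso (perp S x) (perp S' (f x)) f :=
  h.restrict (fun _ hy => hy.1) (fun _ hy => h.mem_perp hx hy) fun _ hy => hy.1

theorem common (h : GraphIso S S' f) {x y : G} (hx : x ∈ S) (hy : y ∈ S) :
    GraphIso (common S x y) (common S' (f x) (f y)) f :=
  h.restrict (fun _ hz => hz.1.1)
    (fun z hz => and_congr (h.mem_perp hx hz) (h.mem_perp hy hz)) fun _ hz => hz.1.1

theorem coords {F V : Type} [Field F] [AddCommGroup V] [Module F V] {P : V → Prop} {β : V → V → F} {g : G' → V}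
    (h : GraphIso S S' f) (hc : Coords S' P β g) : Coords S P β (g ∘ f) where
  mem x hx := hc.mem _ (h.mem hx)
  surj v hv := by
    obtain ⟨y, hy, a, ha, rfl⟩ := hc.surj v hv
    obtain ⟨x, hx, rfl⟩ := h.bij.surjOn hy
    exact ⟨x, hx, a, ha, rfl⟩
  inj x hx y hy a e := h.bij.injOn hx hy (hc.inj _ (h.mem hx) _ (h.mem hy) a e)
  comm x hx y hy hne := (h.comm x hx y hy).symm.trans
    (hc.comm _ (h.mem hx) _ (h.mem hy) fun e => hne (h.bij.injOn hx hy e))

theorem symLike (h : GraphIso S S' f) {n : ℕ} : SymLike S' n → SymLike S n := by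
  rintro ⟨g, hg, hc⟩
  exact ⟨g ∘ f, hg.comp h.bij, fun x hx y hy hne => (h.comm x hx y hy).symm.trans
    (hc _ (h.mem hx) _ (h.mem hy) fun e => hne (h.bij.injOn hx hy e))⟩

theorem spLike (h : GraphIso S S' f) {n : ℕ} : SpLike S' n → SpLike S n :=
  fun ⟨B, h1, h2, g, hg⟩ => ⟨B, h1, h2, g ∘ f, h.coords hg⟩

theorem oLike (h : GraphIso S S' f) {n : ℕ} : OLike S' n → OLike S n :=
  fun ⟨Q, h1, g, hg⟩ => ⟨Q, h1, g ∘ f, h.coords hg⟩

theorem uLike (h : GraphIso S S' f) {n : ℕ} : ULike S' n → ULike S n :=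
  fun ⟨g, hg⟩ => ⟨g ∘ f, h.coords hg⟩

theorem rLike (h : GraphIso S S' f) {n : ℕ} {δ : ZMod 3} : RLike S' n δ → RLike S n δ :=
  fun ⟨B, h1, h2, h3, g, hg⟩ => ⟨B, h1, h2, h3, g ∘ f, h.coords hg⟩

theorem pull {p : G'} (h : GraphIso S S' f) (hp : p ∈ S') : ∃ x ∈ S, f x = p := h.bij.surjOn hp

theorem m22Like (h : GraphIso S S' f) : M22Like S' → M22Like S := by
  rintro ⟨d', hd', c', hc', hn, hu, hr⟩
  obtain ⟨d, hd, rfl⟩ := h.pull hd'
  obtain ⟨c, hc, rfl⟩ := h.pull hc'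
  exact ⟨d, hd, c, hc, fun e => hn ((h.comm d hd c hc).2 e), (h.perp hd).uLike hu, (h.common hd hc).rLike hr⟩

theorem m23Like (h : GraphIso S S' f) : M23Like S' → M23Like S := by
  rintro ⟨d', hd', c', hc', hn, hu, hr⟩
  obtain ⟨d, hd, rfl⟩ := h.pull hd'
  obtain ⟨c, hc, rfl⟩ := h.pull hc'
  exact ⟨d, hd, c, hc, fun e => hn ((h.comm d hd c hc).2 e), (h.perp hd).m22Like hu, (h.common hd hc).rLike hr⟩

theorem triLike (h : GraphIso S S' f) : TriLike S' → TriLike S := by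
  rintro ⟨P, hP, hR, hn⟩
  refine ⟨fun i => {x | x ∈ S ∧ f x ∈ P i}, ?_, fun i => ?_, fun i j hij x hx y hy hc => ?_⟩
  · ext x
    simp only [Set.mem_iUnion]
    refine ⟨fun ⟨i, hi⟩ => hi.1, fun hx => ?_⟩
    obtain ⟨i, hi⟩ := Set.mem_iUnion.1 (hP.symm ▸ h.mem hx)
    exact ⟨i, hx, hi⟩
  · exact (h.restrict (T := {x | x ∈ S ∧ f x ∈ P i}) (fun _ hx => hx.1)
      (fun x hx => ⟨fun hh => ⟨hx, hh⟩, fun hh => hh.2⟩) (hP ▸ Set.subset_iUnion P i)).rLike (hR i)
  · exact hn i j hij _ hx.2 _ hy.2 ((h.comm x hx.1 y hy.1).2 hc)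

theorem m24Like (h : GraphIso S S' f) : M24Like S' → M24Like S := by
  rintro ⟨d', hd', c', hc', hn, hu, hr⟩
  obtain ⟨d, hd, rfl⟩ := h.pull hd'
  obtain ⟨c, hc, rfl⟩ := h.pull hc'
  exact ⟨d, hd, c, hc, fun e => hn ((h.comm d hd c hc).2 e), (h.perp hd).m23Like hu, (h.common hd hc).triLike hr⟩

theorem big (h : GraphIso S S' f) : Big S' → Big S := by
  rintro (⟨n, hn, k⟩ | ⟨n, hn, k⟩ | ⟨n, δ, hn, k⟩ | k | k | k)
  exacts [Or.inl ⟨n, hn, h.symLike k⟩, Or.inr (Or.inl ⟨n, hn, h.oLike k⟩),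
    Or.inr (Or.inr (Or.inl ⟨n, δ, hn, h.rLike k⟩)), Or.inr (Or.inr (Or.inr (Or.inl (h.m22Like k)))),
    Or.inr (Or.inr (Or.inr (Or.inr (Or.inl (h.m23Like k))))), Or.inr (Or.inr (Or.inr (Or.inr (Or.inr (h.m24Like k)))))]

theorem kind (h : GraphIso S S' f) : Kind S' → Kind S := by
  rintro (k | ⟨n, k⟩ | ⟨n, k⟩ | k)
  exacts [Or.inl (h.symLike k), Or.inr (Or.inl ⟨n, h.spLike k⟩), Or.inr (Or.inr (Or.inl ⟨n, h.uLike k⟩)),
    Or.inr (Or.inr (Or.inr (h.big k)))]

end GraphIso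

/-! ### The quotient of a primitive set by the centre -/

theorem Prim.conj_mem (P : Prim S) {x : G} (hx : x ∈ S) {g : G} (hg : g ∈ closure S) : g * x * g⁻¹ ∈ S := by
  suffices ∀ x ∈ S, g * x * g⁻¹ ∈ S ∧ g⁻¹ * x * g ∈ S from (this x hx).1
  clear hx x
  induction hg using closure_induction with
  | mem u hu => intro x hx; exact ⟨by rw [inv_eq P.tr hu]; exact P.closed u hu x hx,
      by rw [inv_eq P.tr hu]; exact P.closed u hu x hx⟩
  | one => intro x hx; simp [hx]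
  | mul a b _ _ ha hb =>
    intro x hx
    refine ⟨?_, ?_⟩
    · rw [show a * b * x * (a * b)⁻¹ = a * (b * x * b⁻¹) * a⁻¹ by group]; exact (ha _ (hb x hx).1).1
    · rw [show (a * b)⁻¹ * x * (a * b) = b⁻¹ * (a⁻¹ * x * a) * b by group]; exact (hb _ (ha x hx).2).2
  | inv a _ ha => intro x hx; rw [inv_inv]; exact ⟨(ha x hx).2, (ha x hx).1⟩

theorem Prim.exists_conj (P : Prim S) {x y : G} (hx : x ∈ S) (hy : y ∈ S) :
    ∃ g ∈ closure S, g * x * g⁻¹ = y := by
  induction P.link x hx y hy with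
  | refl => exact ⟨1, one_mem _, by group⟩
  | @tail b c _ hbc ih =>
    obtain ⟨g, hg, rfl⟩ := ih hbc.1
    refine ⟨g * x * g⁻¹ * c * g, mul_mem (mul_mem (subset_closure hbc.1) (subset_closure hbc.2.1)) hg, ?_⟩
    exact Eq.trans (by group) (mul_conj_eq P.tr hbc.1 hbc.2.1 hbc.2.2)

/-- A member commuting with everything a second one does, the two differing by a central element. -/
theorem Prim.eq_of_central (P : Prim S) {x y z : G} (hx : x ∈ S) (hy : y ∈ S)
    (hz : ∀ e ∈ S, Commute e z) (h : x = y * z) : x = y :=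
  P.vfree x hx y hy fun e he => by
    subst h
    refine ⟨fun hc => ?_, fun hc => hc.mul_left (hz e he).symm⟩
    have := hc.mul_left (hz e he).symm.inv_left
    rwa [mul_inv_cancel_right] at this

/-- A primitive set is a primitive class, without centre, of the quotient of the group it generates. -/
theorem Prim.exists_quotient {G : Type u} [Group G] [Finite G] {S : Set G} (P : Prim S) :
    ∃ (Q : Type u) (_ : Group Q) (_ : Finite Q) (E : Set Q) (f : G → Q), Rich E ∧ center Q = ⊥ ∧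
      GraphIso S E f ∧ ∀ x ∈ S, ∀ y ∈ S, f (x * y * x) = f x * f y * f x := by
  classical
  set K := closure S with hK
  set π := QuotientGroup.mk' (center K) with hπ
  let f : G → K ⧸ center K := fun x => if h : x ∈ K then π ⟨x, h⟩ else 1
  have hf : ∀ {x} (hx : x ∈ S), f x = π ⟨x, subset_closure hx⟩ := fun hx => dif_pos (subset_closure hx)
  have hinj : ∀ x ∈ S, ∀ y ∈ S, f x = f y → x = y := by
    intro x hx y hy h
    rw [hf hx, hf hy, hπ, QuotientGroup.mk'_apply, QuotientGroup.mk'_apply] at h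
    have hm := mem_center_iff.1 (QuotientGroup.eq.1 h)
    refine (P.eq_of_central hy hx (z := x⁻¹ * y) (fun e he => ?_) (by group)).symm
    exact congrArg Subtype.val (hm ⟨e, subset_closure he⟩)
  have hmul : ∀ x ∈ S, ∀ y ∈ S, f (x * y * x) = f x * f y * f x := by
    intro x hx y hy
    rw [hf (P.closed x hx y hy), hf hx, hf hy, ← map_mul, ← map_mul]
    rfl
  have hcomm : ∀ x ∈ S, ∀ y ∈ S, (Commute (f x) (f y) ↔ Commute x y) := by
    intro x hx y hy
    refine ⟨fun h => by_contra fun hn => ?_, fun h => ?_⟩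
    · have h1 := hmul x hx y hy
      have h2 : f x * f x = 1 := by rw [hf hx, ← map_mul]; convert map_one π; exact Subtype.ext (sq_eq_one P.tr hx)
      rw [h.eq, mul_assoc (f y), h2, mul_one] at h1
      refine hn ?_
      have e := hinj _ (P.closed x hx y hy) _ hy h1
      show x * y = y * x
      calc x * y = x * y * (x * x) := by rw [sq_eq_one P.tr hx, mul_one]
        _ = y * x := by rw [← mul_assoc, e]
    · rw [hf hx, hf hy]
      exact (show Commute (⟨x, subset_closure hx⟩ : K) ⟨y, subset_closure hy⟩ from Subtype.ext h.eq).map π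
  set E := f '' S with hE
  have hiso : GraphIso S E f := ⟨⟨Set.mapsTo_image f S, hinj, Set.surjOn_image f S⟩, hcomm⟩
  have himg : π '' {x : K | (x : G) ∈ S} = E := by
    ext q
    exact ⟨fun ⟨x, hx, e⟩ => ⟨x, hx, (hf hx).trans e⟩, fun ⟨x, hx, e⟩ => ⟨⟨x, subset_closure hx⟩, hx, (hf hx).symm.trans e⟩⟩
  obtain ⟨a, ha, b, hb, hab, hcab⟩ := P.pair
  have hord : ∀ q ∈ E, orderOf q = 2 := by
    rintro _ ⟨x, hx, rfl⟩
    refine orderOf_eq_prime ?_ fun h1 => ?_
    · rw [hf hx, ← map_pow]; convert map_one π; exact Subtype.ext (by simp [pow_two, sq_eq_one P.tr hx])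
    · have hz : ∀ e ∈ S, Commute e x := fun e he => (hcomm e he x hx).1 (h1 ▸ Commute.one_right _)
      obtain ⟨y, hy, hxy⟩ : ∃ y ∈ S, ¬ Commute x y := by
        by_contra hh
        push Not at hh
        rcases eq_or_ne a x with rfl | hax
        · exact hab (P.vfree a ha b hb fun e he => ⟨fun _ => by
            by_contra hne
            obtain h' | h' := (Relation.ReflTransGen.cases_head (P.link a ha b hb))
            · exact hab h'
            · obtain ⟨w, hw, -⟩ := h'; exact hw.2.2 (hh w hw.2.1), fun _ => (hz e he).symm⟩)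
        · obtain h' | h' := (Relation.ReflTransGen.cases_head (P.link x hx a ha))
          · exact hax h'.symm
          · obtain ⟨w, hw, -⟩ := h'; exact hw.2.2 (hh w hw.2.1)
      exact hxy (hz y hy).symm
  have hcls : IsThreeTranspositionClass E := by
    refine ⟨⟨hord, ?_⟩, ⟨f a, ⟨a, ha, rfl⟩, ?_⟩, ?_⟩
    · rintro _ ⟨x, hx, rfl⟩ _ ⟨y, hy, rfl⟩
      rw [hf hx, hf hy, ← map_mul, ← map_pow, ← map_pow]
      rcases P.tr.2 x hx y hy with h | h
      · exact Or.inl (by convert map_one π; exact Subtype.ext (by simpa using h))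
      · exact Or.inr (by convert map_one π; exact Subtype.ext (by simpa using h))
    · ext q
      rw [mem_conjugatesOf', isConj_iff]
      constructor
      · rintro ⟨x, hx, rfl⟩
        obtain ⟨g, hg, hgx⟩ := P.exists_conj ha hx
        refine ⟨π ⟨g, hg⟩, ?_⟩
        rw [hf ha, hf hx, ← map_inv, ← map_mul, ← map_mul]
        exact congrArg π (Subtype.ext hgx)
      · rintro ⟨c, rfl⟩
        obtain ⟨g, rfl⟩ := QuotientGroup.mk'_surjective _ c
        refine ⟨_, P.conj_mem ha g.2, ?_⟩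
        rw [hf (P.conj_mem ha g.2), hf ha, ← map_inv, ← map_mul, ← map_mul]
        rfl
    · rw [← himg, ← MonoidHom.map_closure]
      exact (congrArg (Subgroup.map π) (closure_closure_coe_preimage (k := S))).trans
        (map_top_of_surjective _ (QuotientGroup.mk'_surjective _))
  have hZ : center (K ⧸ center K) = ⊥ := by
    rw [eq_bot_iff]
    intro q hq
    obtain ⟨k, rfl⟩ := QuotientGroup.mk'_surjective _ q
    rw [mem_bot, QuotientGroup.mk'_apply, QuotientGroup.eq_one_iff]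
    have hfix : ∀ x ∈ S, (k : G) * x * (k : G)⁻¹ = x := fun x hx => by
      refine hinj _ (P.conj_mem hx k.2) _ hx ?_
      rw [hf (P.conj_mem hx k.2), hf hx]
      rw [show (⟨(k : G) * x * (k : G)⁻¹, _⟩ : K) = k * ⟨x, subset_closure hx⟩ * k⁻¹ from rfl, map_mul, map_mul,
        map_inv, ← mem_center_iff.1 hq, mul_inv_cancel_right]
    have hle : closure S ≤ centralizer ({(k : G)} : Set G) := (closure_le _).2 fun x hx =>
      mem_centralizer_singleton_iff.2 (mul_inv_eq_iff_eq_mul.1 (hfix x hx)).symm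
    exact mem_center_iff.2 fun g => Subtype.ext (mem_centralizer_singleton_iff.1 (hle g.2))
  have hpair : ∃ p ∈ E, ∃ q ∈ E, p ≠ q ∧ Commute p q :=
    ⟨f a, ⟨a, ha, rfl⟩, f b, ⟨b, hb, rfl⟩, fun e => hab (hinj a ha b hb e), (hcomm a ha b hb).2 hcab⟩
  have hVW : ∀ x ∈ S, ∀ y ∈ S, (VRel E (f x) (f y) → VRel S x y) ∧ (WRel E (f x) (f y) → WRel S x y) := by
    refine fun x hx y hy => ⟨fun h e he => ?_, fun h e he => ?_⟩
    · rw [← hcomm x hx e he, ← hcomm y hy e he]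
      exact h _ ⟨e, he, rfl⟩
    · have := h _ ⟨e, he, rfl⟩
      rwa [hcomm x hx e he, hcomm y hy e he, ne_eq, hiso.eq_iff he hx, ne_eq, hiso.eq_iff he hy] at this
  have hcore : pCore 2 (K ⧸ center K) ≤ center _ ∧ pCore 3 (K ⧸ center K) ≤ center _ := by
    constructor
    · by_contra h
      have := (Cfsg.Lib.Components.pCore_normal_and_isPGroup (G := K ⧸ center K) 2).1
      obtain ⟨g, hg, hgd⟩ := exists_moved hcls h (d := f a) ⟨a, ha, rfl⟩
      obtain ⟨w, hw, e⟩ := ThreeTr.conj_mem hcls g (x := f a) ⟨a, ha, rfl⟩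
      have := vRel_of_mem_pCore hcls (d := f a) ⟨a, ha, rfl⟩ (ThreeTr.conj_mem hcls g ⟨a, ha, rfl⟩) (moved_diff_mem hg)
      rw [← e] at this
      exact hgd (e.symm.trans (congrArg f (P.vfree w hw a ha ((hVW w hw a ha).1 this))))
    · by_contra h
      have := (Cfsg.Lib.Components.pCore_normal_and_isPGroup (G := K ⧸ center K) 3).1
      obtain ⟨g, hg, hgd⟩ := exists_moved hcls h (d := f a) ⟨a, ha, rfl⟩
      obtain ⟨w, hw, e⟩ := ThreeTr.conj_mem hcls g (x := f a) ⟨a, ha, rfl⟩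
      have := wRel_of_mem_pCore hcls (d := f a) ⟨a, ha, rfl⟩ (ThreeTr.conj_mem hcls g ⟨a, ha, rfl⟩) (moved_diff_mem hg)
      rw [← e] at this
      exact hgd (e.symm.trans (congrArg f (P.wfree a ha w hw ((hVW a ha w hw).2 this)).symm))
  have hlink : ∀ p ∈ E, ∀ q ∈ E, Linked E p q := by
    rintro _ ⟨x, hx, rfl⟩ _ ⟨y, hy, rfl⟩
    suffices ∀ z, Relation.ReflTransGen (fun a b => b ∈ S ∧ Commute a b) x z → z ∈ S ∧ Linked E (f x) (f z) from
      (this y (P.joined x hx y hy)).2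
    intro z hz
    induction hz with
    | refl => exact ⟨hx, Relation.ReflTransGen.refl⟩
    | @tail b c _ hbc hb =>
      exact ⟨hbc.1, hb.2.tail ⟨⟨b, hb.1, rfl⟩, ⟨c, hbc.1, rfl⟩, (hcomm b hb.1 c hbc.1).2 hbc.2⟩⟩
  obtain ⟨p, hp, q, hq, hpq, hc⟩ := hpair
  have hS : Semisimple E := ⟨hcls, ⟨p, hp, q, hq, hpq⟩, hcore.1, hcore.2⟩
  exact ⟨K ⧸ center K, inferInstance, inferInstance, E, f,
    ⟨hcls, hS.primitive (hS.index_le_two_of_linked hlink), p, hp, q, hq, hpq, hc⟩, hZ, hiso, hmul⟩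

/-- A primitive set has a known graph once every primitive class without centre has one. -/
theorem Prim.kind {G : Type u} [Group G] [Finite G] {S : Set G} (P : Prim S) (hM : MainStatement.{u}) : Kind S := by
  obtain ⟨Q, _, _, E, f, hR, hZ, hf, -⟩ := P.exists_quotient
  exact hf.kind (hM Q E hR hZ)

/-! ### Moves -/

variable {D : Set G}

theorem mem_perp_comm {x y : G} (hx : x ∈ D) (h : y ∈ perp D x) : x ∈ perp D y := ⟨hx, h.2.1.symm, h.2.2.symm⟩

/-- Noncommuting pairs are conjugate. -/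
theorem exists_conj_pair [Finite G] (hR : Rich D) {a b p q : G} (ha : a ∈ D) (hb : b ∈ D) (hab : ¬ Commute a b)
    (hp : p ∈ D) (hq : q ∈ D) (hpq : ¬ Commute p q) : ∃ g : G, g * a * g⁻¹ = p ∧ g * b * g⁻¹ = q := by
  obtain ⟨g, rfl⟩ := ThreeTr.exists_conj hR.cls ha hp
  obtain ⟨h, hh, hhq⟩ := hR.nonperp_transitive hp (ThreeTr.conj_mem hR.cls g hb)
    (fun hc => hab ((conj_commute_iff g a b).1 hc)) hq hpq
  refine ⟨h * g, ?_, ?_⟩
  · rw [show h * g * a * (h * g)⁻¹ = h * (g * a * g⁻¹) * h⁻¹ by group, hh.eq, mul_inv_cancel_right]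
  · rw [← hhq]; group

/-- Commuting pairs are conjugate. -/
theorem exists_conj_edge [Finite G] (hR : Rich D) {a b p q : G} (ha : a ∈ D) (hb : b ∈ perp D a)
    (hp : p ∈ D) (hq : q ∈ perp D p) : ∃ g : G, g * a * g⁻¹ = p ∧ g * b * g⁻¹ = q := by
  obtain ⟨g, rfl⟩ := ThreeTr.exists_conj hR.cls ha hp
  have hb' : g * b * g⁻¹ ∈ perp D (g * a * g⁻¹) := by
    rw [← conj_image_perp hR.cls g a]; exact ⟨b, hb, rfl⟩
  obtain ⟨h, hh, hhq⟩ := hR.perp_transitive hp hb' hq
  refine ⟨h * g, ?_, ?_⟩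
  · rw [show h * g * a * (h * g)⁻¹ = h * (g * a * g⁻¹) * h⁻¹ by group, CoreThree.conj_fix (closure_perp_commute hh)]
  · rw [← hhq]; group

/-- A noncommuting pair has a common neighbour. -/
theorem exists_common [Finite G] (hR : Rich D) {d c : G} (hd : d ∈ D) (hc : c ∈ D) (hdc : ¬ Commute d c) :
    ∃ y, y ∈ common D d c := by
  obtain ⟨x, hx⟩ := hR.exists_perp hd
  obtain ⟨z, hz, hxz, hdz⟩ := hR.exists_sep hd hx
  obtain ⟨g, hgd, hgz⟩ := exists_conj_pair hR hd hz hdz hd hc hdc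
  have h1 : g * x * g⁻¹ ∈ perp D (g * d * g⁻¹) := by rw [← conj_image_perp hR.cls g d]; exact ⟨x, hx, rfl⟩
  have h2 : g * x * g⁻¹ ∈ perp D (g * z * g⁻¹) := by
    rw [← conj_image_perp hR.cls g z]
    exact ⟨x, ⟨hx.1, fun e => hdz (e ▸ hx.2.2), hxz.symm⟩, rfl⟩
  exact ⟨g * x * g⁻¹, hgd ▸ h1, hgz ▸ h2⟩

/-- Conjugation by an element of the ambient group is a graph isomorphism. -/
theorem graphIso_conj (hD : IsThreeTranspositionClass D) (g x : G) :
    GraphIso (perp D x) (perp D (g * x * g⁻¹)) fun y => g * y * g⁻¹ where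
  bij := ⟨fun y hy => conj_image_perp hD g x ▸ ⟨y, hy, rfl⟩, (conj_image_injective g).injOn,
    fun y hy => conj_image_perp hD g x ▸ hy⟩
  comm a _ b _ := conj_commute_iff g a b

/-- The trace seen from one of its members: `y` goes to `d`, so `d`, `c` go to a noncommuting pair `p`, `q` of
neighbours of `d`, and the members of the trace commuting with `y` to the common neighbours of `p` and `q` there. -/
theorem exists_view [Finite G] (hR : Rich D) {d c y : G} (hd : d ∈ D) (hc : c ∈ D) (hdc : ¬ Commute d c)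
    (hy : y ∈ common D d c) : ∃ g : G, g * y * g⁻¹ = d ∧ g * d * g⁻¹ ∈ perp D d ∧ g * c * g⁻¹ ∈ perp D d ∧
      ¬ Commute (g * d * g⁻¹) (g * c * g⁻¹) ∧ (∀ e, g * e * g⁻¹ ∈ perp D d ↔ e ∈ perp D y) ∧
      (∀ e, g * e * g⁻¹ ∈ common (perp D d) (g * d * g⁻¹) (g * c * g⁻¹) ↔
        e ∈ common D d c ∧ e ∈ perp D y) := by
  obtain ⟨g, hg⟩ := ThreeTr.exists_conj hR.cls hy.1.1 hd
  have hiff : ∀ e x, g * e * g⁻¹ ∈ perp D (g * x * g⁻¹) ↔ e ∈ perp D x := fun e x => by
    rw [← conj_image_perp hR.cls g x]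
    exact ⟨fun ⟨w, hw, h⟩ => (mul_left_cancel (mul_right_cancel h) : w = e) ▸ hw, fun h => ⟨e, h, rfl⟩⟩
  refine ⟨g, hg, hg ▸ (hiff d y).2 (mem_perp_comm hd hy.1), hg ▸ (hiff c y).2 (mem_perp_comm hc hy.2),
    fun h => hdc ((conj_commute_iff g d c).1 h), fun e => hg ▸ hiff e y, fun e => ?_⟩
  constructor
  · rintro ⟨⟨he, hed, hcd⟩, -, hec, hcc⟩
    have he' : e ∈ perp D y := (hiff e y).1 (hg.symm ▸ he)
    exact ⟨⟨(hiff e d).1 ⟨he.1, hed, hcd⟩, (hiff e c).1 ⟨he.1, hec, hcc⟩⟩, he'⟩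
  · rintro ⟨⟨hed, hec⟩, hey⟩
    have he := hg ▸ (hiff e y).2 hey
    exact ⟨⟨he, ((hiff e d).2 hed).2⟩, he, ((hiff e c).2 hec).2⟩

end Cfsg.Lib.Fischer
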