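import Cfsg.Agent.Fischer.Base
import Cfsg.Agent.ThreeTransposition.TwoCorePerp.Main
import Cfsg.Agent.Coprime.Fitting
import Cfsg.Agent.Components.GenFitting

/-!
The two branches with twins among the neighbours, and the connectedness of the commuting graph on the neighbours.
-/

set_option autoImplicit false
set_option linter.unusedSectionVars false

namespace Cfsg.Lib.Fischer

open Cfsg Subgroup Cfsg.Lib.ThreeTr
open Cfsg.Lib.PrimeGraph (KQuad)
open Cfsg.Lib.ThreeTr.TwoCorePerp
open scoped commutatorElement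

universe u

variable {G : Type u} [Group G] [Finite G] {D : Set G}

theorem perp_closed (hD : IsThreeTranspositionClass D) {d x y : G} (hx : x ∈ perp D d) (hy : y ∈ perp D d) :
    x * y * x ∈ perp D d := by
  have h : x * y * x⁻¹ ∈ perp D (x * d * x⁻¹) := by rw [← conj_image_perp hD x d]; exact ⟨y, hy, rfl⟩
  rwa [inv_eq hD.1 hx.1, ← hx.2.2.eq, mul_assoc, sq_eq_one hD.1 hx.1, mul_one] at h

/-- The hypotheses of Fischer's theorem hold in a primitive class without centre. -/
theorem Rich.fischer_hyps (hR : Rich D) (hZ : center G = ⊥) :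
    (∀ N : Subgroup G, N.Normal → Group.IsSolvable N → N = ⊥) ∧
      ⁅commutator G, commutator G⁆ = commutator G := by
  have hcls := hR.cls
  have hcen : ∀ p, (∀ a ∈ D, ∀ b ∈ D, a⁻¹ * b ∈ pCore p G → a = b) → pCore p G ≤ center G := by
    intro p hp x hx
    have := (Cfsg.Lib.Components.pCore_normal_and_isPGroup (G := G) p).1
    by_contra hne
    obtain ⟨d, hd, -⟩ := hcls.2.1
    obtain ⟨g, hg, hgd⟩ := exists_moved hcls (fun h => hne (h hx)) hd
    exact hgd (hp d hd _ (ThreeTr.conj_mem hcls g hd) (moved_diff_mem hg)).symm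
  have h2 := hcen 2 fun a ha b hb h => (eq_of_vRel_of_primitive hR.prim hcls hb ha (vRel_of_mem_pCore hcls ha hb h)).symm
  have h3 := hcen 3 fun a ha b hb h =>
    eq_of_wRel_of_primitive hR.prim hcls hR.pair ha hb (wRel_of_mem_pCore hcls ha hb h)
  have hS : Semisimple D := ⟨hcls, hR.two, h2, h3⟩
  have hF : fittingSubgroup G = ⊥ := by
    rw [eq_bot_iff, ← hZ]
    exact fitting_le_center fun p hp => by
      rcases Nat.lt_or_ge 3 p with h | h
      · exact pCore_le_center_of_gt hcls hp h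
      · have := hp.two_le
        rcases (show p = 2 ∨ p = 3 by omega) with rfl | rfl
        exacts [h2, h3]
  refine ⟨fun N hN hs => ?_, ?_⟩
  · by_contra hne
    have := (nontrivial_iff_ne_bot N).2 hne
    refine Cfsg.Lib.Coprime.fitting_ne_bot (G := N) ((map_eq_bot_iff_of_injective _ N.subtype_injective).1 ?_)
    rw [Cfsg.Lib.Components.fitting_map_subtype_eq hN.isSubnormal, hF, bot_inf_eq]
  · rw [commutator_eq_of_index_le_two hcls Cfsg.Lib.Components.layer_perfect
      (hS.index_le_two_of_linked fun a ha b hb => linked_of_primitive hR.prim hcls hR.pair ha hb)]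
    exact Cfsg.Lib.Components.layer_perfect

/-- Odd involutions of degree five are transpositions. -/
theorem swap_of_odd_involution : ∀ σ : Equiv.Perm (Fin 5), σ * σ = 1 → Equiv.Perm.sign σ = -1 →
    σ.support.card = 2 := by decide +kernel

theorem support_commute_iff : ∀ σ τ : Equiv.Perm (Fin 5), σ.support.card = 2 → τ.support.card = 2 → σ ≠ τ →
    (σ * τ = τ * σ ↔ Disjoint σ.support τ.support) := by decide +kernel

/-- An odd core among the neighbours gives five letters. -/
theorem symFive_of_core (hR : Rich D) (hZ : center G = ⊥) {d : G} (hd : d ∈ D)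
    (h : ¬ oddCore (closure (perp D d)) ≤ center (closure (perp D d))) : SymLike D 5 := by
  obtain ⟨e⟩ := CoreThree.fischer_core (Rich.fischer_hyps hR hZ).1 (Rich.fischer_hyps hR hZ).2 hR.cls hd h
  have hD := hR.cls
  have hsign : ∀ x ∈ D, Equiv.Perm.sign (e x) = -1 := by
    intro x hx
    refine (Int.units_eq_one_or _).resolve_left fun h1 => ?_
    have hle : (⊤ : Subgroup G) ≤ (Equiv.Perm.sign.comp e.toMonoidHom).ker := by
      rw [← hD.2.2, closure_le]
      intro y hy
      obtain ⟨g, rfl⟩ := ThreeTr.exists_conj hD hx hy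
      show Equiv.Perm.sign (e (g * x * g⁻¹)) = 1
      simp [h1]
    have := hle (mem_top (e.symm (Equiv.swap 0 1)))
    simp [MonoidHom.mem_ker] at this
  have hcard : ∀ x ∈ D, (e x).support.card = 2 := fun x hx =>
    swap_of_odd_involution _ (by rw [← map_mul, sq_eq_one hD.1 hx, map_one]) (hsign x hx)
  refine ⟨fun x => (e x).support, ⟨hcard, fun x hx y hy hxy => e.injective ?_, fun s hs => ?_⟩, fun x hx y hy hne => ?_⟩
  · obtain ⟨a, b, hab, ea⟩ := Equiv.Perm.card_support_eq_two.1 (hcard x hx)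
    obtain ⟨a', b', hab', eb⟩ := Equiv.Perm.card_support_eq_two.1 (hcard y hy)
    have hxy' : ({a, b} : Finset (Fin 5)) = {a', b'} := by
      rw [← Equiv.Perm.support_swap hab, ← Equiv.Perm.support_swap hab', ← ea, ← eb]; exact hxy
    rw [ea, eb]
    revert hxy' hab hab'
    clear * - a b a' b'
    revert a b a' b'
    decide +kernel
  · obtain ⟨a, b, hab, rfl⟩ := Finset.card_eq_two.1 hs
    obtain ⟨x, hx⟩ := hD.2.1
    obtain ⟨p, q, hpq, ep⟩ := Equiv.Perm.card_support_eq_two.1 (hcard x hx.1)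
    obtain ⟨c, hc⟩ := isConj_iff.1 (Equiv.Perm.isConj_swap hpq hab)
    refine ⟨e.symm c * x * (e.symm c)⁻¹, ThreeTr.conj_mem hD _ hx.1, ?_⟩
    show (e (e.symm c * x * (e.symm c)⁻¹)).support = _
    rw [map_mul, map_mul, map_inv, e.apply_symm_apply, ep, hc, Equiv.Perm.support_swap hab]
  · refine Iff.trans ?_ (support_commute_iff _ _ (hcard x hx) (hcard y hy) (e.injective.ne hne))
    exact ⟨fun h => (h.map e.toMonoidHom).eq, fun h => e.injective (by rw [map_mul, map_mul]; exact h)⟩

theorem spLike_of_three {S : Set G} (P : Three S) : ∃ n, SpLike S n := by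
  classical
  let b := Module.finBasis (ZMod 2) P.space
  refine ⟨_, LinearMap.compl₁₂ P.form b.equivFun.symm.toLinearMap b.equivFun.symm.toLinearMap,
    fun v => P.form_isAlt _, ⟨fun v hv => ?_, fun v hv => ?_⟩,
    fun x => if h : x ∈ S then b.equivFun ⟨TwoCorePerp.ind S x, P.mem_space h⟩ else 0, ?_⟩
  · refine b.equivFun.symm.map_eq_zero_iff.1 (P.form_nondeg.1 _ fun w => ?_)
    simpa [LinearMap.compl₁₂_apply] using hv (b.equivFun w)
  · refine b.equivFun.symm.map_eq_zero_iff.1 (P.form_nondeg.2 _ fun w => ?_)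
    simpa [LinearMap.compl₁₂_apply] using hv (b.equivFun w)
  have hne : ∀ {x} (hx : x ∈ S), (⟨TwoCorePerp.ind S x, P.mem_space hx⟩ : P.space) ≠ 0 := fun hx h =>
    P.ind_ne_zero hx (congrArg Subtype.val h)
  refine ⟨fun x hx => ?_, fun v hv => ?_, fun x hx y hy a e => ?_, fun x hx y hy _ => ?_⟩
  · simp only [dif_pos hx]; exact fun h => hne hx (b.equivFun.map_eq_zero_iff.1 h)
  · obtain ⟨x, hx, e⟩ := P.exists_rep (v := b.equivFun.symm v) fun h => hv (b.equivFun.symm.map_eq_zero_iff.1 h)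
    exact ⟨x, hx, 1, one_ne_zero, by rw [one_smul, dif_pos hx, ← e, LinearEquiv.apply_symm_apply]⟩
  · rw [dif_pos hx, dif_pos hy] at e
    rcases (by decide : ∀ z : ZMod 2, z = 0 ∨ z = 1) a with rfl | rfl
    · exact absurd (b.equivFun.map_eq_zero_iff.1 (by simpa using e)) (hne hy)
    · exact P.ind_inj hx hy (congrArg Subtype.val (b.equivFun.injective ((e.trans (one_smul _ _)).symm)))
  · simp only [dif_pos hx, dif_pos hy, LinearMap.compl₁₂_apply, LinearEquiv.coe_coe, LinearEquiv.symm_apply_apply]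
    show _ ↔ P.pairing _ _ = 0
    rw [P.pairing_ind _ hy]
    exact (TwoCorePerp.ind_eq_zero (e := ⟨y, hy⟩)).symm

theorem uLike_of_coord {S : Set G} {n : ℕ} {f : Unitary.Vec n → G} (C : Unitary.Coord S n f) :
    ULike S n := by
  classical
  have hh : ∀ v w : Unitary.Vec n, herm v w = (SolvablePerp.Model.HS n).h v w := fun v w => by
    rw [SolvablePerp.Model.h_eq]; simp [herm, sq]
  have hex : ∀ x : {x // x ∈ S}, ∃ v, Unitary.Iso n v ∧ f v = x.1 := fun x => C.surj x.1 x.2
  choose g hg hfg using hex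
  refine ⟨fun x => if h : x ∈ S then g ⟨x, h⟩ else 0, fun x hx => ?_, fun v hv => ?_, fun x hx y hy a e => ?_,
    fun x hx y hy _ => ?_⟩
  · simp only [dif_pos hx, hh]; exact hg _
  · have hv' : Unitary.Iso n v := ⟨hv.1, by rw [← hh]; exact hv.2⟩
    obtain ⟨a, ha, e⟩ := C.inj _ _ (hg ⟨f v, C.mem v hv'⟩) hv' (hfg _)
    exact ⟨f v, C.mem v hv', a, ha, by simpa [dif_pos (C.mem v hv')] using e⟩
  · rw [dif_pos hx, dif_pos hy] at e
    have ha : a ≠ 0 := fun h => (hg ⟨y, hy⟩).1 (by rw [e, h, zero_smul])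
    have := hfg ⟨y, hy⟩
    rw [e, C.smul _ _ (hg _) ha, hfg] at this
    exact this
  · rw [dif_pos hx, dif_pos hy, hh, ← C.comm _ _ (hg _) (hg _), hfg, hfg]

/-- Twins among the neighbours give a symplectic or unitary class. -/
theorem twins_of_core (hR : Rich D) (hZ : center G = ⊥) {d : G} (hd : d ∈ D)
    (h : ¬ pCore 2 (closure (perp D d)) ≤ center (closure (perp D d))) :
    (∃ n, SpLike D n) ∨ ∃ n, ULike D n := by
  have P := geo_of_rich hR hd h
  have hD := hR.cls
  have hcent : ∀ g : G, (∀ x ∈ D, Commute g x) → g = 1 := fun g hg => by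
    have hle : closure D ≤ centralizer {g} := (closure_le _).2 fun x hx =>
      mem_centralizer_singleton_iff.2 (hg x hx).symm.eq
    have : g ∈ center G := mem_center_iff.2 fun k => mem_centralizer_singleton_iff.1 (hle (hD.2.2 ▸ mem_top k))
    rwa [hZ, mem_bot] at this
  obtain ⟨a, ha⟩ := P.exists_perp hd
  rcases P.two_or_four hd ha with h2 | h4
  · exact Or.inl (spLike_of_three ⟨P, fun y hy b hb => (P.ncard_cls hd ha hy hb).trans h2⟩)
  · obtain ⟨n, f, C⟩ := Unitary.exists_coords (⟨P, fun y hy b hb => (P.ncard_cls hd ha hy hb).trans h4,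
      hD.2.2, hcent⟩ : Unitary.Uni D)
    exact Or.inr ⟨n, uLike_of_coord C⟩

/-- Chains of commuting members. -/
def Joined (S : Set G) : G → G → Prop := Relation.ReflTransGen fun a b => b ∈ S ∧ Commute a b

theorem Joined.mem {S : Set G} {a b : G} (ha : a ∈ S) (h : Joined S a b) : b ∈ S := by
  induction h with
  | refl => exact ha
  | tail _ hbc _ => exact hbc.1

theorem Joined.symm {S : Set G} {a b : G} (ha : a ∈ S) (h : Joined S a b) : Joined S b a := by
  induction h with
  | refl => exact Relation.ReflTransGen.refl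
  | @tail b c hab hbc ih => exact Relation.ReflTransGen.head ⟨Joined.mem ha hab, hbc.2.symm⟩ ih

/-- A twin-free set with a commuting pair has a noncommuting pair with a common neighbour. -/
theorem exists_cherry {S : Set G}
    (hv : TwinFree S) (hpair : ∃ a ∈ S, ∃ b ∈ S, a ≠ b ∧ Commute a b) :
    ∃ a ∈ S, ∃ b ∈ S, ∃ w ∈ S, ¬ Commute a b ∧ Commute a w ∧ Commute b w ∧ w ≠ a ∧ w ≠ b := by
  by_contra hcon
  push Not at hcon
  obtain ⟨a, ha, b, hb, hne, hc⟩ := hpair
  refine hne (hv a ha b hb fun e he => ⟨fun h => ?_, fun h => ?_⟩)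
  · by_contra hbe
    rcases eq_or_ne e a with rfl | hea
    · exact hbe hc.symm
    · exact hea (hcon b hb e he a ha hbe hc.symm h.symm hne).symm
  · by_contra hae
    rcases eq_or_ne e b with rfl | heb
    · exact hae hc
    · exact heb (hcon a ha e he b hb hae hc h.symm hne.symm).symm

/-- The commuting graph on the neighbours of a member is connected. -/
theorem perp_joined (hR : Rich D) {d : G} (hd : d ∈ D) (hv : TwinFree (perp D d))
    (hpair : ∃ a ∈ perp D d, ∃ b ∈ perp D d, a ≠ b ∧ Commute a b) :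
    ∀ x ∈ perp D d, ∀ y ∈ perp D d, Joined (perp D d) x y := by
  have hD := hR.cls
  by_contra hcon
  push Not at hcon
  obtain ⟨p, hp, q, hq, hpq⟩ := hcon
  obtain ⟨a, ha, b, hb, w, hw, hab, haw, hbw, hwa, hwb⟩ :=
    exists_cherry hv hpair
  obtain ⟨b', hb', hnb⟩ : ∃ b' ∈ perp D d, ¬ Joined (perp D d) a b' := by
    by_contra hh
    push Not at hh
    exact hpq ((Joined.symm ha (hh p hp)).trans (hh q hq))
  have hab' : ¬ Commute a b' := fun h => hnb (Relation.ReflTransGen.single ⟨hb', h⟩)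
  set T := common D a b' with hT
  have hdT : d ∈ T := ⟨⟨hd, ha.2.1.symm, ha.2.2.symm⟩, ⟨hd, hb'.2.1.symm, hb'.2.2.symm⟩⟩
  have hiso : ∀ u ∈ T, Commute d u → u = d := fun u hu hdu => by
    by_contra hne
    have huS : u ∈ perp D d := ⟨hu.1.1, hne, hdu⟩
    exact hnb ((Relation.ReflTransGen.single ⟨huS, hu.1.2.2⟩).tail ⟨hb', hu.2.2.2.symm⟩)
  obtain ⟨g, hga, hgb⟩ := exists_conj_pair hR ha.1 hb.1 hab ha.1 hb'.1 hab'
  have hgmem : ∀ {u}, u ∈ common D a b → g * u * g⁻¹ ∈ T := fun {u} hu => by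
    refine ⟨?_, ?_⟩
    · rw [← hga, ← conj_image_perp hD g a]; exact ⟨u, hu.1, rfl⟩
    · rw [← hgb, ← conj_image_perp hD g b]; exact ⟨u, hu.2, rfl⟩
  set d' := g * d * g⁻¹ with hd'
  set w' := g * w * g⁻¹ with hw'
  have hd'T : d' ∈ T := hgmem ⟨⟨hd, ha.2.1.symm, ha.2.2.symm⟩, ⟨hd, hb.2.1.symm, hb.2.2.symm⟩⟩
  have hw'T : w' ∈ T := hgmem ⟨⟨hw.1, hwa, haw⟩, ⟨hw.1, hwb, hbw⟩⟩
  have hc' : Commute d' w' := (conj_commute_iff g d w).2 hw.2.2
  have hne' : w' ≠ d' := fun e => hw.2.1 (mul_left_cancel (mul_right_cancel e))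
  have hdd' : ¬ Commute d d' := fun h => by
    have e := hiso d' hd'T h
    exact hne' ((hiso w' hw'T (e ▸ hc')).trans e.symm)
  have hclosed : ∀ u ∈ T, ∀ v ∈ T, u * v * u ∈ T := fun u hu v hv =>
    ⟨perp_closed hD hu.1 hv.1, perp_closed hD hu.2 hv.2⟩
  have h1 : Commute (d * d' * d) (d * w' * d) := by
    have := (conj_commute_iff d d' w').2 hc'
    rwa [inv_eq hD.1 hd] at this
  rw [braid hD.1 hd hd'T.1.1 hdd'] at h1
  have h2 : Commute d (d' * (d * w' * d) * d') := by
    have := (conj_commute_iff d' (d' * d * d') (d * w' * d)).2 h1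
    rwa [inv_eq hD.1 hd'T.1.1, invol_conj_conj (sq_eq_one hD.1 hd'T.1.1)] at this
  have h3 := hiso _ (hclosed _ hd'T _ (hclosed _ hdT _ hw'T)) h2
  refine hne' ?_
  have hd2 := sq_eq_one hD.1 hd
  have hd'2 := sq_eq_one hD.1 hd'T.1.1
  calc w' = d * (d * w' * d) * d := (invol_conj_conj hd2 w').symm
    _ = d * (d' * (d' * (d * w' * d) * d') * d') * d := by rw [invol_conj_conj hd'2]
    _ = d * (d' * d * d') * d := by rw [h3]
    _ = d' := by rw [← braid hD.1 hd hd'T.1.1 hdd', invol_conj_conj hd2]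

/-- Nontrivial twins among the neighbours give noncentral cores. -/
theorem cores_of_twins (hR : Rich D) {d : G} (hd : d ∈ D) {a b : G} (ha : a ∈ perp D d) (hb : b ∈ perp D d)
    (hne : a ≠ b) :
    (VRel (perp D d) a b → ¬ pCore 2 (closure (perp D d)) ≤ center (closure (perp D d))) ∧
    (WRel (perp D d) a b → ¬ pCore 3 (closure (perp D d)) ≤ center (closure (perp D d)) ∧
      ¬ oddCore (closure (perp D d)) ≤ center (closure (perp D d))) := by
  classical
  have hD := hR.cls
  have hcls := CoreThree.perp_class hR hd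
  have hmove : ∀ a ∈ perp D d, ∀ b ∈ perp D d, a ≠ b →
      (VRel (perp D d) a b → ¬ pCore 2 (closure (perp D d)) ≤ center (closure (perp D d))) ∧
      (WRel (perp D d) a b → ¬ pCore 3 (closure (perp D d)) ≤ center (closure (perp D d))) := by
    intro a ha b hb hne
    refine ⟨fun h hle => hne ?_, fun h hle => hne ?_⟩
    · exact congrArg Subtype.val (eq_of_mul_mem_center hcls (a := ⟨a, subset_closure ha⟩) (b := ⟨b, subset_closure hb⟩)
        ha hb (hle (vRel_mem_pCore hcls ha hb (SolvablePerp.perpIn_vRel.2 h))))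
    · refine congrArg Subtype.val (eq_of_mul_mem_center hcls (a := ⟨a, subset_closure ha⟩)
        (b := ⟨b, subset_closure hb⟩) ha hb (hle (wRel_mem_pCore hcls ha hb fun y hy => ?_)))
      have := h y hy
      simpa [Commute, SemiconjBy, Subtype.ext_iff] using this
  have hodd : ∀ a ∈ perp D d, ∀ b ∈ perp D d, a ≠ b → WRel (perp D d) a b →
      ¬ oddCore (closure (perp D d)) ≤ center (closure (perp D d)) := by
    intro a ha b hb hne h hle
    have : Fact (Nat.Prime 3) := ⟨Nat.prime_three⟩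
    have := (Cfsg.Lib.Components.pCore_normal_and_isPGroup (G := closure (perp D d)) 3).1
    obtain ⟨k, hk⟩ := (Cfsg.Lib.Components.isPGroup_pCore (G := closure (perp D d)) 3).exists_card_eq
    exact (hmove a ha b hb hne).2 h ((Cfsg.Lib.Components.le_pPrimeCore (p := 2)
      (by rw [hk]; exact Nat.Coprime.pow_left _ (by norm_num))).trans hle)
  exact ⟨(hmove a ha b hb hne).1, fun h => ⟨(hmove a ha b hb hne).2 h, hodd a ha b hb hne h⟩⟩

/-- Neighbours without twins of either sort form a primitive set. -/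
theorem prim_of_free (hR : Rich D) {d : G} (hd : d ∈ D) (hv : TwinFree (perp D d))
    (hw : ∀ a ∈ perp D d, ∀ b ∈ perp D d, WRel (perp D d) a b → a = b) : Prim (perp D d) := by
  classical
  have hD := hR.cls
  have hpair : ∃ a ∈ perp D d, ∃ b ∈ perp D d, a ≠ b ∧ Commute a b := by
    by_contra hcon
    push Not at hcon
    obtain ⟨a, ha⟩ := hR.exists_perp hd
    by_cases hone : ∀ b ∈ perp D d, b = a
    · obtain ⟨z, hz, haz, hdz⟩ := hR.exists_sep hd ha
      have hsame : perp D a = {d} := by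
        have hc := ncard_perp_eq hD ha.1 hd
        have hpd : perp D d = {a} := Set.eq_singleton_iff_unique_mem.2 ⟨ha, hone⟩
        rw [hpd, Set.ncard_singleton] at hc
        obtain ⟨t, ht⟩ := Set.ncard_eq_one.1 hc
        have hdt : d ∈ perp D a := mem_perp_comm hd ha
        rw [ht] at hdt ⊢
        rw [Set.mem_singleton_iff.1 hdt]
      rcases eq_or_ne z a with rfl | hza
      · exact hdz ha.2.2
      · have hm : z ∈ perp D a := ⟨hz, hza, haz⟩
        rw [hsame, Set.mem_singleton_iff] at hm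
        exact hdz (hm ▸ Commute.refl z)
    · push Not at hone
      obtain ⟨b, hb, hne⟩ := hone
      refine hne (hw b hb a ha fun y hy => ⟨fun ⟨h1, h2⟩ => ?_, fun ⟨h1, h2⟩ => ?_⟩)
      · exact absurd h2 (hcon b hb y hy h1.symm)
      · exact absurd h2 (hcon a ha y hy h1.symm)
  exact ⟨⟨fun x hx => hD.1.1 x hx.1, fun x hx y hy => hD.1.2 x hx.1 y hy.1⟩,
    fun x hx y hy => perp_closed hD hx hy, fun x hx y hy => hR.perp_connected hd hx hy, hv, hw,
    perp_joined hR hd hv hpair, hpair⟩

/-- With central cores the neighbours form a primitive set. -/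
theorem prim_of_cores (hR : Rich D) {d : G} (hd : d ∈ D)
    (h3 : pCore 3 (closure (perp D d)) ≤ center (closure (perp D d)))
    (h2 : pCore 2 (closure (perp D d)) ≤ center (closure (perp D d))) : Prim (perp D d) :=
  prim_of_free hR hd
    (fun a ha b hb h => by_contra fun hne => (cores_of_twins hR hd ha hb hne).1 h h2)
    (fun a ha b hb h => by_contra fun hne => ((cores_of_twins hR hd ha hb hne).2 h).1 h3)

/-- Without twins among the neighbours these form a primitive set, or the class is of degree five. -/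
theorem prim_of_twinFree (hR : Rich D) (hZ : center G = ⊥) {d : G} (hd : d ∈ D) (hv : TwinFree (perp D d)) :
    Prim (perp D d) ∨ SymLike D 5 := by
  by_cases hw : ∀ a ∈ perp D d, ∀ b ∈ perp D d, WRel (perp D d) a b → a = b
  · exact Or.inl (prim_of_free hR hd hv hw)
  · push Not at hw
    obtain ⟨a, ha, b, hb, h, hne⟩ := hw
    exact Or.inr (symFive_of_core hR hZ hd ((cores_of_twins hR hd ha hb hne).2 h).2)

/-- Either the neighbours form a primitive set, or the class is symplectic, unitary or of degree five. -/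
theorem perp_cases (hR : Rich D) (hZ : center G = ⊥) {d : G} (hd : d ∈ D) :
    Prim (perp D d) ∨ SymLike D 5 ∨ (∃ n, SpLike D n) ∨ ∃ n, ULike D n := by
  by_cases hv : TwinFree (perp D d)
  · exact (prim_of_twinFree hR hZ hd hv).imp_right Or.inl
  · simp only [TwinFree, not_forall] at hv
    obtain ⟨a, ha, b, hb, h, hne⟩ := hv
    exact Or.inr (Or.inr (twins_of_core hR hZ hd ((cores_of_twins hR hd ha hb hne).1 h)))

/-- Every member has primitive neighbours as soon as one has. -/
theorem setting_of_prim (hR : Rich D) (hZ : center G = ⊥) {d : G} (hd : d ∈ D) (P : Prim (perp D d)) :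
    Setting D := by
  have hD := hR.cls
  refine ⟨hR, hZ, fun x hx => ?_⟩
  obtain ⟨g, rfl⟩ := ThreeTr.exists_conj hD hd hx
  have hi := graphIso_conj hD g d
  refine ⟨⟨fun a ha => hD.1.1 a ha.1, fun a ha b hb => hD.1.2 a ha.1 b hb.1⟩,
    fun a ha b hb => perp_closed hD ha hb, fun a ha b hb => hR.perp_connected hx ha hb,
    fun a ha b hb h => ?_, fun a ha b hb h => ?_, fun a ha b hb => ?_, ?_⟩
  · obtain ⟨u, hu, rfl⟩ := hi.bij.surjOn ha
    obtain ⟨v, hv, rfl⟩ := hi.bij.surjOn hb
    exact congrArg (fun y => g * y * g⁻¹) (P.vfree u hu v hv fun e he => by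
      rw [← hi.comm u hu e he, ← hi.comm v hv e he]; exact h _ (hi.mem he))
  · obtain ⟨u, hu, rfl⟩ := hi.bij.surjOn ha
    obtain ⟨v, hv, rfl⟩ := hi.bij.surjOn hb
    exact congrArg (fun y => g * y * g⁻¹) (P.wfree u hu v hv fun e he => by
      have := h _ (hi.mem he)
      rwa [hi.comm u hu e he, hi.comm v hv e he, ne_eq, hi.eq_iff he hu, ne_eq, hi.eq_iff he hv] at this)
  · obtain ⟨u, hu, rfl⟩ := hi.bij.surjOn ha
    obtain ⟨v, hv, rfl⟩ := hi.bij.surjOn hb
    suffices ∀ z, Joined (perp D d) u z → z ∈ perp D d ∧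
        Joined (perp D (g * d * g⁻¹)) (g * u * g⁻¹) (g * z * g⁻¹) from (this v (P.joined u hu v hv)).2
    intro z hz
    induction hz with
    | refl => exact ⟨hu, Relation.ReflTransGen.refl⟩
    | @tail b c _ hbc ih => exact ⟨hbc.1, ih.2.tail ⟨hi.mem hbc.1, (hi.comm b ih.1 c hbc.1).2 hbc.2⟩⟩
  · obtain ⟨a, ha, b, hb, hne, hc⟩ := P.pair
    exact ⟨_, hi.mem ha, _, hi.mem hb, fun e => hne ((hi.eq_iff ha hb).1 e), (hi.comm a ha b hb).2 hc⟩

end Cfsg.Lib.Fischer
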