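import Cfsg.Agent.Fischer.Branch

/-!
Coordinates over two elements: symplectic labels of a closed set, quadratic forms given by their points of value one.
-/

set_option autoImplicit false
set_option linter.unusedSectionVars false

namespace Cfsg.Lib.Fischer.Two

open Cfsg Subgroup Cfsg.Lib.ThreeTr

universe u v

variable {G : Type u} [Group G]

theorem bit : ∀ a : ZMod 2, a = 0 ∨ a = 1 := by decide

theorem eq_of_zero_iff : ∀ {a b : ZMod 2}, (a = 0 ↔ b = 0) → a = b := by decide

theorem ne_zero_iff : ∀ {a : ZMod 2}, a ≠ 0 ↔ a = 1 := by decide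

section

variable {V : Type v} [AddCommGroup V] [Module (ZMod 2) V]

theorem neg_eq' (v : V) : -v = v := by
  rw [← neg_one_smul (ZMod 2) v, show (-1 : ZMod 2) = 1 from rfl, one_smul]

theorem add_self (v : V) : v + v = 0 := by
  conv_lhs => arg 2; rw [← neg_eq' v]
  exact add_neg_cancel v

theorem eq_iff_add (v w : V) : v = w ↔ v + w = 0 := by
  rw [← sub_eq_zero, sub_eq_add_neg, neg_eq']

theorem add_add_self (v w : V) : v + w + w = v := by rw [add_assoc, add_self, add_zero]

variable {B : LinearMap.BilinForm (ZMod 2) V}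

theorem alt_symm (hA : B.IsAlt) (v w : V) : B v w = B w v := by
  have h := hA.neg_eq v w
  rwa [CharTwo.neg_eq] at h

theorem form_self (hA : B.IsAlt) (v : V) : B v v = 0 := hA v

end

variable {V : Type} [AddCommGroup V] [Module (ZMod 2) V]

section

variable {S : Set G} {P : V → Prop} {β : V → V → ZMod 2} {f : G → V}

theorem exists_pre (hc : Coords S P β f) {v : V} (hv : P v) : ∃ x ∈ S, f x = v := by
  obtain ⟨x, hx, a, ha, e⟩ := hc.surj v hv
  rcases bit a with rfl | rfl
  · exact absurd rfl ha
  · exact ⟨x, hx, by rw [e, one_smul]⟩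

theorem label_inj (hc : Coords S P β f) {x y : G} (hx : x ∈ S) (hy : y ∈ S) (h : f x = f y) : x = y :=
  hc.inj x hx y hy 1 (by rw [one_smul, h])

theorem label_ne (hc : Coords S P β f) {x y : G} (hx : x ∈ S) (hy : y ∈ S) (h : x ≠ y) : f x ≠ f y :=
  fun e => h (label_inj hc hx hy e)

end

section

variable {B : LinearMap.BilinForm (ZMod 2) V}

theorem exists_one (hN : B.Nondegenerate) {v : V} (hv : v ≠ 0) : ∃ w, B v w = 1 := by
  by_contra h
  push Not at h
  exact hv (hN.1 v fun w => (bit _).resolve_right (h w))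

/-- A vector orthogonal to all that a nonzero vector is orthogonal to is zero or that vector. -/
theorem zero_or_eq (hN : B.Nondegenerate) {p u : V} (hp : p ≠ 0)
    (h : ∀ z, B p z = 0 → B u z = 0) : u = 0 ∨ u = p := by
  obtain ⟨z₀, hz₀⟩ := exists_one hN hp
  have key : ∀ z, B u z = B u z₀ * B p z := fun z => by
    have h1 := h (z + B p z • z₀) (by simp [hz₀, CharTwo.add_self_eq_zero])
    simp only [map_add, map_smul, smul_eq_mul] at h1
    rw [mul_comm, eq_iff_add (V := ZMod 2)]
    exact h1
  rcases bit (B u z₀) with h0 | h0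
  · exact Or.inl (hN.1 u fun z => by rw [key, h0, zero_mul])
  · refine Or.inr ((eq_iff_add u p).2 (hN.1 _ fun z => ?_))
    rw [map_add, LinearMap.add_apply, key, h0, one_mul, CharTwo.add_self_eq_zero]

/-- A vector orthogonal to all that is orthogonal to a hyperbolic pair lies in its span. -/
theorem mem_pair (hA : B.IsAlt) (hN : B.Nondegenerate) {p q u : V} (hpq : B p q = 1)
    (h : ∀ z, B p z = 0 → B q z = 0 → B u z = 0) : u = B u q • p + B u p • q := by
  refine (eq_iff_add _ _).2 (hN.1 _ fun z => ?_)
  have hqp : B q p = 1 := (alt_symm hA q p).trans hpq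
  have h1 := h (z + B q z • p + B p z • q) (by simp [form_self hA, hpq, CharTwo.add_self_eq_zero])
    (by simp [form_self hA, hqp, CharTwo.add_self_eq_zero])
  simp only [map_add, map_smul, smul_eq_mul, LinearMap.add_apply, LinearMap.smul_apply] at h1 ⊢
  linear_combination h1

variable {S : Set G} {f : G → V}

/-- The commutation criterion, equal members included. -/
theorem comm_iff (hA : B.IsAlt) {P : V → Prop} (hc : Coords S P (fun v w => B v w) f) {x y : G} (hx : x ∈ S)
    (hy : y ∈ S) : Commute x y ↔ B (f x) (f y) = 0 := by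
  rcases eq_or_ne x y with rfl | h
  · exact iff_of_true (Commute.refl x) (form_self hA _)
  · exact hc.comm x hx y hy h

theorem form_eq_one (hA : B.IsAlt) {P : V → Prop} (hc : Coords S P (fun v w => B v w) f) {x y : G} (hx : x ∈ S)
    (hy : y ∈ S) (h : ¬ Commute x y) : B (f x) (f y) = 1 :=
  ne_zero_iff.1 fun e => h ((comm_iff hA hc hx hy).2 e)

/-- In symplectic labels of a closed set the third member of a noncommuting pair is labelled by the sum. -/
theorem label_third (hA : B.IsAlt) (hN : B.Nondegenerate) (hc : Coords S (fun v => v ≠ 0) (fun v w => B v w) f)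
    (htr : IsThreeTranspositionSet S) (hcl : ∀ x ∈ S, ∀ y ∈ S, x * y * x ∈ S) {x y : G} (hx : x ∈ S) (hy : y ∈ S)
    (hxy : ¬ Commute x y) : f (x * y * x) = f x + f y := by
  have hw := hcl x hx y hy
  have hperp : ∀ z, B (f x) z = 0 → B (f y) z = 0 → B (f (x * y * x)) z = 0 := fun z h1 h2 => by
    rcases eq_or_ne z 0 with rfl | hz
    · simp
    obtain ⟨e, he, rfl⟩ := exists_pre hc hz
    have c1 := (comm_iff hA hc hx he).2 h1
    have c2 := (comm_iff hA hc hy he).2 h2
    exact (comm_iff hA hc hw he).1 ((c1.mul_left c2).mul_left c1)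
  have h := mem_pair hA hN (form_eq_one hA hc hx hy hxy) hperp
  have hx2 := sq_eq_one htr hx
  have n0 : f (x * y * x) ≠ 0 := hc.mem _ hw
  have nx : f (x * y * x) ≠ f x := label_ne hc hw hx fun e => hxy <| by
    have : y = x := by
      calc y = x * (x * y * x) * x := (invol_conj_conj hx2 y).symm
        _ = x * x * x := by rw [e]
        _ = x := by rw [hx2, one_mul]
    rw [this]
  have ny : f (x * y * x) ≠ f y := label_ne hc hw hy fun e => hxy <| by
    show x * y = y * x
    calc x * y = x * y * x * x := by rw [mul_assoc (x * y), hx2, mul_one]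
      _ = y * x := by rw [e]
  rcases bit (B (f (x * y * x)) (f y)) with h1 | h1 <;> rcases bit (B (f (x * y * x)) (f x)) with h2 | h2 <;>
    rw [h1, h2] at h <;> simp at h
  exacts [absurd h n0, absurd h ny, absurd h nx, h]

variable [FiniteDimensional (ZMod 2) V]

/-- Two linear conditions leave room beside any given vector. -/
theorem exists_kernel (h4 : 4 ≤ Module.finrank (ZMod 2) V) (L₁ L₂ : V →ₗ[ZMod 2] ZMod 2) (u : V) :
    ∃ v, L₁ v = 0 ∧ L₂ v = 0 ∧ v ≠ 0 ∧ v ≠ u := by
  set K := LinearMap.ker (L₁.prod L₂) with hK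
  have h2 : 2 ≤ Module.finrank (ZMod 2) K := by
    have h1 := LinearMap.finrank_range_add_finrank_ker (L₁.prod L₂)
    have h3 := Submodule.finrank_le (LinearMap.range (L₁.prod L₂))
    rw [Module.finrank_prod, Module.finrank_self] at h3
    rw [← hK] at h1
    omega
  obtain ⟨v, hv, hvu⟩ : ∃ v ∈ K, v ∉ Submodule.span (ZMod 2) {u} := by
    by_contra hcon
    push Not at hcon
    have h5 := Submodule.finrank_mono (show K ≤ Submodule.span (ZMod 2) {u} from hcon)
    have h6 : Module.finrank (ZMod 2) (Submodule.span (ZMod 2) ({u} : Set V)) ≤ 1 := by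
      refine (finrank_span_le_card _).trans ?_
      simp
    omega
  obtain ⟨h1, h1'⟩ := Prod.ext_iff.1 (LinearMap.mem_ker.1 hv)
  exact ⟨v, h1, h1', fun e => hvu (e ▸ Submodule.zero_mem _),
    fun e => hvu (by rw [e]; exact Submodule.mem_span_singleton_self u)⟩

end

/-! ### Forms given by their points of value one -/

section

variable {V : Type v} [AddCommGroup V] [Module (ZMod 2) V]

open _root_.Classical

/-- The indicator of a set. -/
noncomputable def one1 (T : Set V) (v : V) : ZMod 2 := if v ∈ T then 1 else 0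

theorem one1_eq_one {T : Set V} {v : V} : one1 T v = 1 ↔ v ∈ T := by
  unfold one1
  split_ifs with h <;> simp [h]

theorem one1_eq_zero {T : Set V} {v : V} : one1 T v = 0 ↔ v ∉ T := by
  unfold one1
  split_ifs with h <;> simp [h]

variable {B : LinearMap.BilinForm (ZMod 2) V}

/-- A set spanning the space, containing exactly one of `v`, `v + y` for `y` in it and `v` orthogonal to `y`, closed
under sums of nonorthogonal pairs, is the set of value one of a form with polar `B`. -/
theorem one1_add (hA : B.IsAlt) {T : Set V} (h0 : (0 : V) ∉ T)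
    (hone : ∀ y ∈ T, ∀ v, B y v = 0 → v ≠ 0 → v ≠ y → (v + y ∈ T ↔ v ∉ T))
    (hadd : ∀ y ∈ T, ∀ v ∈ T, B y v = 1 → v + y ∈ T) (hspan : Submodule.span (ZMod 2) T = ⊤) :
    ∀ v w, one1 T (v + w) = one1 T v + one1 T w + B v w := by
  have hz : one1 T 0 = 0 := one1_eq_zero.2 h0
  have base : ∀ y ∈ T, ∀ v, one1 T (v + y) = one1 T v + one1 T y + B v y := by
    intro y hy v
    rw [one1_eq_one.2 hy]
    rcases eq_or_ne v 0 with rfl | hv0
    · rw [zero_add, one1_eq_one.2 hy, hz]; simp
    rcases eq_or_ne v y with rfl | hvy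
    · rw [add_self, hz, one1_eq_one.2 hy, form_self hA]; rfl
    rcases bit (B y v) with h | h
    · rw [alt_symm hA v y, h, add_zero]
      by_cases hv : v ∈ T
      · rw [one1_eq_one.2 hv, one1_eq_zero.2 fun e => (hone y hy v h hv0 hvy).1 e hv]; rfl
      · rw [one1_eq_zero.2 hv, zero_add, one1_eq_one.2 ((hone y hy v h hv0 hvy).2 hv)]
    · rw [alt_symm hA v y, h, add_assoc, CharTwo.add_self_eq_zero, add_zero]
      by_cases hv : v ∈ T
      · rw [one1_eq_one.2 hv, one1_eq_one.2 (hadd y hy v hv h)]
      · rw [one1_eq_zero.2 hv]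
        refine one1_eq_zero.2 fun e => hv ?_
        have h' := hadd y hy _ e (by rw [map_add, h, form_self hA, add_zero])
        rwa [add_add_self] at h'
  intro v w
  have hw : w ∈ Submodule.span (ZMod 2) T := hspan ▸ Submodule.mem_top
  induction hw using Submodule.span_induction generalizing v with
  | mem y hy => exact base y hy v
  | zero => simp [hz]
  | add a b _ _ ha hb =>
    rw [← add_assoc, hb, ha, hb a, map_add, map_add, LinearMap.add_apply]
    ring
  | smul c a _ ha =>
    rcases bit c with rfl | rfl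
    · simp [hz]
    · simpa using ha v

end

end Cfsg.Lib.Fischer.Two
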