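import Cfsg.Agent.ThreeTransposition.CoreThree.Main
import Cfsg.Agent.ThreeTransposition.Relations
import Cfsg.Agent.PrimeGraph.FieldFour
import Cfsg.Prelude.Def_FischerSpaces

/-!
# Fischer's classification of 3-transposition groups: interface

Everything is stated on the level of the commuting graph of a set of members. A kind of graph is a parametrisation
of the members by pairs, vectors or points. The pieces of the induction are propositions to be proved in files of
their own.
-/

set_option autoImplicit false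

namespace Cfsg.Lib.Fischer

open Cfsg Subgroup Cfsg.Lib.ThreeTr
open Cfsg.Lib.PrimeGraph (KQuad)

universe u

variable {G : Type u} [Group G]

/-- The members commuting with two given ones. -/
def common (S : Set G) (d c : G) : Set G := perp S d ∩ perp S c

/-- A closed connected set of 3-transpositions without twins, whose commuting graph is connected. -/
structure Prim (S : Set G) : Prop where
  tr : IsThreeTranspositionSet S
  closed : ∀ x ∈ S, ∀ y ∈ S, x * y * x ∈ S
  link : ∀ x ∈ S, ∀ y ∈ S, Relation.ReflTransGen (StepIn S) x y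
  vfree : TwinFree S
  wfree : ∀ x ∈ S, ∀ y ∈ S, WRel S x y → x = y
  joined : ∀ x ∈ S, ∀ y ∈ S, Relation.ReflTransGen (fun a b => b ∈ S ∧ Commute a b) x y
  pair : ∃ a ∈ S, ∃ b ∈ S, a ≠ b ∧ Commute a b

/-- A primitive class in a group without centre whose perp sets are again primitive. -/
structure Setting (D : Set G) : Prop where
  rich : Rich D
  cen : center G = ⊥
  perpPrim : ∀ d ∈ D, Prim (perp D d)

/-! ### Kinds of graphs -/

/-- `f` labels the members by the points satisfying `P`, one member for each, commuting when orthogonal. -/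
structure Coords {F V : Type} [Field F] [AddCommGroup V] [Module F V] (S : Set G) (P : V → Prop) (β : V → V → F)
    (f : G → V) : Prop where
  mem : ∀ x ∈ S, P (f x)
  surj : ∀ v, P v → ∃ x ∈ S, ∃ a : F, a ≠ 0 ∧ v = a • f x
  inj : ∀ x ∈ S, ∀ y ∈ S, ∀ a : F, f y = a • f x → x = y
  comm : ∀ x ∈ S, ∀ y ∈ S, x ≠ y → (Commute x y ↔ β (f x) (f y) = 0)

/-- Transpositions of degree `n`. -/
def SymLike (S : Set G) (n : ℕ) : Prop :=
  ∃ f : G → Finset (Fin n), Set.BijOn f S {s | s.card = 2} ∧
    ∀ x ∈ S, ∀ y ∈ S, x ≠ y → (Commute x y ↔ Disjoint (f x) (f y))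

/-- Symplectic transvections over two elements in dimension `n`. -/
def SpLike (S : Set G) (n : ℕ) : Prop :=
  ∃ B : LinearMap.BilinForm (ZMod 2) (Fin n → ZMod 2), B.IsAlt ∧ B.Nondegenerate ∧
    ∃ f, Coords S (fun v => v ≠ 0) (fun v w => B v w) f

/-- Orthogonal transvections over two elements in dimension `n`. -/
def OLike (S : Set G) (n : ℕ) : Prop :=
  ∃ Q : QuadraticForm (ZMod 2) (Fin n → ZMod 2), (QuadraticMap.polarBilin Q).Nondegenerate ∧
    ∃ f, Coords S (fun v => Q v = 1) (QuadraticMap.polar Q) f

/-- The standard hermitian form over four elements. -/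
def herm {n : ℕ} (v w : Fin n → KQuad) : KQuad := ∑ i, v i * w i ^ 2

/-- Unitary transvections over four elements in dimension `n`. -/
def ULike (S : Set G) (n : ℕ) : Prop :=
  ∃ f, Coords S (fun v : Fin n → KQuad => v ≠ 0 ∧ herm v v = 0) herm f

/-- Reflections of one norm over three elements in dimension `n`; `δ` is the determinant of the form for which that
norm is one. -/
def RLike (S : Set G) (n : ℕ) (δ : ZMod 3) : Prop :=
  ∃ B : LinearMap.BilinForm (ZMod 3) (Fin n → ZMod 3), B.IsSymm ∧ B.Nondegenerate ∧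
    (LinearMap.BilinForm.toMatrix' B).det = δ ∧ ∃ f, Coords S (fun v => B v v = 1) (fun v w => B v w) f

/-- Type M(22) on the level of graphs. -/
def M22Like (S : Set G) : Prop :=
  ∃ d ∈ S, ∃ c ∈ S, ¬ Commute d c ∧ ULike (perp S d) 6 ∧ RLike (common S d c) 6 1

/-- Type M(23) on the level of graphs. -/
def M23Like (S : Set G) : Prop :=
  ∃ d ∈ S, ∃ c ∈ S, ¬ Commute d c ∧ M22Like (perp S d) ∧ RLike (common S d c) 7 1

/-- Three classes of reflections of a plus-type space of dimension eight, members of different ones not commuting. -/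
def TriLike (S : Set G) : Prop :=
  ∃ P : Fin 3 → Set G, (⋃ i, P i) = S ∧ (∀ i, RLike (P i) 8 1) ∧
    ∀ i j, i ≠ j → ∀ x ∈ P i, ∀ y ∈ P j, ¬ Commute x y

/-- Type M(24) on the level of graphs. -/
def M24Like (S : Set G) : Prop :=
  ∃ d ∈ S, ∃ c ∈ S, ¬ Commute d c ∧ M23Like (perp S d) ∧ TriLike (common S d c)

/-- The outcome when the perp set of a member is primitive. -/
def Big (S : Set G) : Prop :=
  (∃ n, 7 ≤ n ∧ SymLike S n) ∨ (∃ n, 6 ≤ n ∧ OLike S n) ∨ (∃ n δ, 6 ≤ n ∧ RLike S n δ) ∨
    M22Like S ∨ M23Like S ∨ M24Like S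

/-- All outcomes. -/
def Kind (S : Set G) : Prop :=
  SymLike S 5 ∨ (∃ n, SpLike S n) ∨ (∃ n, ULike S n) ∨ Big S

/-! ### The pieces -/

/-- A perp set of kind S5 gives S7. -/
def StepSymFive : Prop :=
  ∀ (G : Type u) [Group G] [Finite G] (D : Set G), Setting D → ∀ d ∈ D, SymLike (perp D d) 5 → SymLike D 7

/-- A perp set of kind S_n gives S_(n+2). -/
def StepSym : Prop :=
  ∀ (G : Type u) [Group G] [Finite G] (D : Set G), Setting D → ∀ d ∈ D, ∀ n, 7 ≤ n → SymLike (perp D d) n →
    SymLike D (n + 2)

/-- A symplectic perp set gives an orthogonal class in two dimensions more. -/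
def StepSp : Prop :=
  ∀ (G : Type u) [Group G] [Finite G] (D : Set G), Setting D → ∀ d ∈ D, ∀ n, 4 ≤ n → SpLike (perp D d) n →
    ∃ m, n + 2 ≤ m ∧ OLike D m

/-- An orthogonal class of dimension at least eight is no perp set. -/
def ExclO : Prop :=
  ∀ (G : Type u) [Group G] [Finite G] (D : Set G), Setting D → ∀ d ∈ D, ∀ n, 8 ≤ n → ¬ OLike (perp D d) n

/-- A unitary class of dimension five or more, six excepted, is no perp set. -/
def ExclU : Prop :=
  ∀ (G : Type u) [Group G] [Finite G] (D : Set G), Setting D → ∀ d ∈ D, ∀ n, 5 ≤ n → n ≠ 6 →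
    ¬ ULike (perp D d) n

/-- A perp set of reflections gives reflections in one dimension more, the determinant unchanged. -/
def StepR : Prop :=
  ∀ (G : Type u) [Group G] [Finite G] (D : Set G), Setting D → ∀ d ∈ D, ∀ n δ, 5 ≤ n → RLike (perp D d) n δ →
    RLike D (n + 1) δ

/-- A perp set of kind U6 gives type M(22). -/
def StepUSix : Prop :=
  ∀ (G : Type u) [Group G] [Finite G] (D : Set G), Setting D → ∀ d ∈ D, ULike (perp D d) 6 → M22Like D

/-- A perp set of type M(22) gives type M(23). -/
def StepMTwentyTwo : Prop :=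
  ∀ (G : Type u) [Group G] [Finite G] (D : Set G), Setting D → ∀ d ∈ D, M22Like (perp D d) → M23Like D

/-- A perp set of type M(23) gives type M(24). -/
def StepMTwentyThree : Prop :=
  ∀ (G : Type u) [Group G] [Finite G] (D : Set G), Setting D → ∀ d ∈ D, M23Like (perp D d) → M24Like D

/-- Type M(24) is no perp set. -/
def ExclMTwentyFour : Prop :=
  ∀ (G : Type u) [Group G] [Finite G] (D : Set G), Setting D → ∀ d ∈ D, ¬ M24Like (perp D d)

/-- The three small coincidences among the kinds. -/
def Coincidences : Prop :=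
  ∀ (G : Type u) [Group G] (S : Set G),
    (SymLike S 6 → SpLike S 4) ∧ (ULike S 4 → RLike S 5 1) ∧ (OLike S 6 → SymLike S 8 ∨ RLike S 5 (-1))

/-- The induction: every primitive class in a group without centre has a known graph. -/
def MainStatement : Prop :=
  ∀ (G : Type u) [Group G] [Finite G] (D : Set G), Rich D → center G = ⊥ → Kind D

end Cfsg.Lib.Fischer
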