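import Cfsg.Agent.Fischer.Two

/-!
An orthogonal class over two elements of dimension at least eight is no perp set: the members of a trace orthogonal
to one of them would form sums of three that are detected by commutation from two points of view.
-/

set_option autoImplicit false
set_option linter.unusedSectionVars false

namespace Cfsg.Lib.Fischer.OExcl

open Cfsg Subgroup Cfsg.Lib.ThreeTr
open Cfsg.Lib.Fischer.Two

universe u

variable {G : Type u} [Group G] [Finite G] {D : Set G} {n : ℕ} {d : G}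
  {Q : QuadraticForm (ZMod 2) (Fin n → ZMod 2)} {f : G → Fin n → ZMod 2}

/-- Orthogonal labels of the neighbours. -/
structure Model (D : Set G) (d : G) (Q : QuadraticForm (ZMod 2) (Fin n → ZMod 2)) (f : G → Fin n → ZMod 2) :
    Prop where
  nd : (QuadraticMap.polarBilin Q).Nondegenerate
  co : Coords (perp D d) (fun v => Q v = 1) (fun v w => QuadraticMap.polarBilin Q v w) f

theorem polar_alt : (QuadraticMap.polarBilin Q).IsAlt := fun v => by
  rw [QuadraticMap.polarBilin_apply_apply, QuadraticMap.polar_self, two_smul, CharTwo.add_self_eq_zero]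

theorem map_add' (v w : Fin n → ZMod 2) : Q (v + w) = Q v + Q w + QuadraticMap.polarBilin Q v w := by
  rw [QuadraticMap.polarBilin_apply_apply, QuadraticMap.polar]; ring

theorem exists_off {k : ℕ} (L : Fin k → (Fin n → ZMod 2) →ₗ[ZMod 2] ZMod 2) (U : Submodule (ZMod 2) (Fin n → ZMod 2))
    (h : k + Module.finrank (ZMod 2) U < n) : ∃ v, (∀ i, L i v = 0) ∧ v ∉ U := by
  by_contra hcon
  push Not at hcon
  have h1 := LinearMap.finrank_range_add_finrank_ker (LinearMap.pi L)
  have h2 := Submodule.finrank_le (LinearMap.range (LinearMap.pi L))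
  have h3 := Submodule.finrank_mono (show LinearMap.ker (LinearMap.pi L) ≤ U from fun v hv =>
    hcon v fun i => congrFun (LinearMap.mem_ker.1 hv) i)
  rw [Module.finrank_fin_fun] at h1 h2
  omega

theorem exists_one_in_perp (hN : (QuadraticMap.polarBilin Q).Nondegenerate) (hn : 3 ≤ n) {p r : Fin n → ZMod 2}
    (hpr : QuadraticMap.polarBilin Q p r = 1) :
    ∃ a, Q a = 1 ∧ QuadraticMap.polarBilin Q p a = 0 ∧ QuadraticMap.polarBilin Q r a = 0 := by
  have hA : (QuadraticMap.polarBilin Q).IsAlt := polar_alt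
  obtain ⟨v, hv, hv0⟩ := exists_off ![(QuadraticMap.polarBilin Q) p, (QuadraticMap.polarBilin Q) r] ⊥ (by rw [finrank_bot]; omega)
  have hpv : (QuadraticMap.polarBilin Q) p v = 0 := hv 0
  have hrv : (QuadraticMap.polarBilin Q) r v = 0 := hv 1
  rcases bit (Q v) with h | h
  swap
  · exact ⟨v, h, hpv, hrv⟩
  obtain ⟨z, hz⟩ := exists_one hN (fun e => hv0 (e ▸ Submodule.zero_mem _) : v ≠ 0)
  set z' := z + (QuadraticMap.polarBilin Q) r z • p + (QuadraticMap.polarBilin Q) p z • r with hz'
  have hrp : (QuadraticMap.polarBilin Q) r p = 1 := (alt_symm hA r p).trans hpr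
  have hp' : (QuadraticMap.polarBilin Q) p z' = 0 := by simp [-QuadraticMap.polarBilin_apply_apply, hz', hpr, form_self hA, CharTwo.add_self_eq_zero]
  have hr' : (QuadraticMap.polarBilin Q) r z' = 0 := by simp [-QuadraticMap.polarBilin_apply_apply, hz', hrp, form_self hA, CharTwo.add_self_eq_zero]
  have hv' : (QuadraticMap.polarBilin Q) v z' = 1 := by
    simp [-QuadraticMap.polarBilin_apply_apply, hz', hz, (alt_symm hA v p).trans hpv, (alt_symm hA v r).trans hrv]
  rcases bit (Q z') with h' | h'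
  swap
  · exact ⟨z', h', hp', hr'⟩
  exact ⟨v + z', by rw [map_add', h, h', hv']; rfl, by rw [map_add, hpv, hp', add_zero],
    by rw [map_add, hrv, hr', add_zero]⟩

theorem exists_next (hn : 8 ≤ n) {a : Fin n → ZMod 2} (ha : Q a = 1) {k : ℕ} (hk : k ≤ 4)
    (L : Fin k → (Fin n → ZMod 2) →ₗ[ZMod 2] ZMod 2) (hLa : ∀ i, L i a = 0)
    (hperp : ∀ v, (∀ i, L i v = 0) → QuadraticMap.polarBilin Q v a = 0)
    (U : Submodule (ZMod 2) (Fin n → ZMod 2)) (hU : Module.finrank (ZMod 2) U ≤ 2) (haU : a ∈ U) :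
    ∃ v, Q v = 1 ∧ (∀ i, L i v = 0) ∧ v ∉ U := by
  obtain ⟨v, hv, hvU⟩ := exists_off L U (by omega)
  rcases bit (Q v) with h | h
  · exact ⟨v + a, by rw [map_add', h, ha, hperp v hv]; rfl,
      fun i => by rw [map_add, hv, hLa, add_zero], fun e => hvU (by simpa using U.sub_mem e haU)⟩
  · exact ⟨v, h, hv, hvU⟩

/-- Three pairwise orthogonal points in the perp of a hyperbolic pair whose sum is another point. -/
theorem exists_triple (hN : (QuadraticMap.polarBilin Q).Nondegenerate) (hn : 8 ≤ n) {p r : Fin n → ZMod 2}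
    (hpr : QuadraticMap.polarBilin Q p r = 1) :
    ∃ a : Fin 3 → Fin n → ZMod 2, (∀ i, Q (a i) = 1) ∧
      (∀ i, QuadraticMap.polarBilin Q p (a i) = 0 ∧ QuadraticMap.polarBilin Q r (a i) = 0) ∧
      (∀ i j, QuadraticMap.polarBilin Q (a i) (a j) = 0) ∧ ∀ i, ∑ j, a j ≠ a i := by
  have hA : (QuadraticMap.polarBilin Q).IsAlt := polar_alt
  obtain ⟨a, ha, hpa, hra⟩ := exists_one_in_perp hN (by omega) hpr
  obtain ⟨b, hb, hLb, hbU⟩ := exists_next hn ha (show 3 ≤ 4 by norm_num) ![(QuadraticMap.polarBilin Q) p, (QuadraticMap.polarBilin Q) r, (QuadraticMap.polarBilin Q) a]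
    (fun i => by fin_cases i <;> simp [-QuadraticMap.polarBilin_apply_apply, hpa, hra, form_self hA])
    (fun v hv => (alt_symm hA v a).trans (hv 2)) (Submodule.span (ZMod 2) {a})
    ((finrank_span_le_card _).trans (by simp)) (Submodule.mem_span_singleton_self a)
  have hpb : (QuadraticMap.polarBilin Q) p b = 0 := hLb 0
  have hrb : (QuadraticMap.polarBilin Q) r b = 0 := hLb 1
  have hab : (QuadraticMap.polarBilin Q) a b = 0 := hLb 2
  obtain ⟨c, hc, hLc, hcU⟩ := exists_next hn ha (show 4 ≤ 4 by norm_num) ![(QuadraticMap.polarBilin Q) p, (QuadraticMap.polarBilin Q) r, (QuadraticMap.polarBilin Q) a, (QuadraticMap.polarBilin Q) b]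
    (fun i => by fin_cases i <;> simp [-QuadraticMap.polarBilin_apply_apply, hpa, hra, form_self hA, (alt_symm hA b a).trans hab])
    (fun v hv => (alt_symm hA v a).trans (hv 2)) (Submodule.span (ZMod 2) {a, b})
    (by
      classical
      refine (finrank_span_le_card _).trans ?_
      simp only [Set.toFinset_insert, Set.toFinset_singleton]
      exact Finset.card_le_two)
    (Submodule.subset_span (Set.mem_insert _ _))
  have hpc : (QuadraticMap.polarBilin Q) p c = 0 := hLc 0
  have hrc : (QuadraticMap.polarBilin Q) r c = 0 := hLc 1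
  have hac : (QuadraticMap.polarBilin Q) a c = 0 := hLc 2
  have hbc : (QuadraticMap.polarBilin Q) b c = 0 := hLc 3
  refine ⟨![a, b, c], fun i => by fin_cases i <;> simp [-QuadraticMap.polarBilin_apply_apply, ha, hb, hc],
    fun i => by fin_cases i <;> simp [-QuadraticMap.polarBilin_apply_apply, hpa, hra, hpb, hrb, hpc, hrc],
    fun i j => by
      fin_cases i <;> fin_cases j <;>
        simp [-QuadraticMap.polarBilin_apply_apply, form_self hA, hab, hac, hbc, (alt_symm hA b a).trans hab, (alt_symm hA c a).trans hac,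
          (alt_symm hA c b).trans hbc], fun i h => ?_⟩
  have hma : a ∈ Submodule.span (ZMod 2) ({a, b} : Set (Fin n → ZMod 2)) :=
    Submodule.subset_span (Set.mem_insert _ _)
  have hmb : b ∈ Submodule.span (ZMod 2) ({a, b} : Set (Fin n → ZMod 2)) :=
    Submodule.subset_span (Set.mem_insert_of_mem _ rfl)
  have hba : b ≠ a := fun e => hbU (e ▸ Submodule.mem_span_singleton_self b)
  simp only [Fin.sum_univ_three, Matrix.cons_val_zero, Matrix.cons_val_one, Matrix.cons_val] at h
  fin_cases i <;> simp at h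
  · rw [add_assoc, add_eq_left] at h
    exact hcU ((eq_iff_add b c).2 h ▸ hmb)
  · rw [add_comm a b, add_assoc, add_eq_left] at h
    exact hcU ((eq_iff_add a c).2 h ▸ hma)
  · exact hba ((eq_iff_add a b).2 h).symm

theorem label_sum (hA : (QuadraticMap.polarBilin Q).IsAlt) (v : Fin n → ZMod 2) {k : ℕ} (w : Fin k → Fin n → ZMod 2)
    (h : ∀ i, QuadraticMap.polarBilin Q v (w i) = 0) : QuadraticMap.polarBilin Q (∑ i, w i) v = 0 := by
  rw [alt_symm hA, map_sum]
  exact Finset.sum_eq_zero fun i _ => h i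

theorem zero_or_of_point (hN : (QuadraticMap.polarBilin Q).Nondegenerate) {p u : Fin n → ZMod 2} (hp : Q p = 1)
    (hup : QuadraticMap.polarBilin Q u p = 0)
    (h : ∀ z, Q z = 1 → QuadraticMap.polarBilin Q p z = 0 → QuadraticMap.polarBilin Q u z = 0) : u = 0 ∨ u = p := by
  have hp0 : p ≠ 0 := fun e => by rw [e, QuadraticMap.map_zero] at hp; exact zero_ne_one hp
  refine zero_or_eq hN hp0 fun z hz => ?_
  rcases bit (Q z) with hq | hq
  swap
  · exact h z hq hz
  have := h (z + p) (by rw [map_add', hq, hp, alt_symm polar_alt, hz]; rfl)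
    (by rw [map_add, hz, form_self polar_alt, add_zero])
  rwa [map_add, hup, add_zero] at this

/-- Seen from `y`, sums that vanish modulo `y` correspond to sums that vanish modulo `p`. -/
theorem transfer (M : Model D d Q f) {y g : G} (hy : y ∈ perp D d) (hp : g * d * g⁻¹ ∈ perp D d)
    (hiff : ∀ e, g * e * g⁻¹ ∈ perp D d ↔ e ∈ perp D y) {k : ℕ} (e : Fin k → G)
    (he : ∀ i, e i ∈ perp D d ∧ e i ∈ perp D y) :
    (∑ i, f (e i) = 0 ∨ ∑ i, f (e i) = f y) ↔
      (∑ i, f (g * e i * g⁻¹) = 0 ∨ ∑ i, f (g * e i * g⁻¹) = f (g * d * g⁻¹)) := by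
  have hA : (QuadraticMap.polarBilin Q).IsAlt := polar_alt
  have hsame : ∀ w, w ∈ perp D d → w ∈ perp D y → ∀ i,
      (QuadraticMap.polarBilin Q) (f (g * e i * g⁻¹)) (f (g * w * g⁻¹)) = (QuadraticMap.polarBilin Q) (f (e i)) (f w) := fun w hw hwy i => eq_of_zero_iff (by
    rw [← comm_iff hA M.co ((hiff _).2 (he i).2) ((hiff _).2 hwy), ← comm_iff hA M.co (he i).1 hw,
      conj_commute_iff])
  have hpi : ∀ i, (QuadraticMap.polarBilin Q) (f (g * d * g⁻¹)) (f (g * e i * g⁻¹)) = 0 := fun i =>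
    (comm_iff hA M.co hp ((hiff _).2 (he i).2)).1 ((conj_commute_iff g d (e i)).2 (he i).1.2.2)
  have hyi : ∀ i, (QuadraticMap.polarBilin Q) (f y) (f (e i)) = 0 := fun i => (comm_iff hA M.co hy (he i).1).1 (he i).2.2.2
  constructor
  · intro h
    refine zero_or_of_point M.nd (M.co.mem _ hp) (label_sum hA _ _ hpi) fun z hz hpz => ?_
    obtain ⟨W, hW, rfl⟩ := exists_pre M.co hz
    have e' : g * (g⁻¹ * W * g) * g⁻¹ = W := by group
    generalize g⁻¹ * W * g = w at e'
    subst e'
    rcases eq_or_ne w d with rfl | hwd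
    · exact label_sum hA _ _ hpi
    have hwy := (hiff w).1 hW
    have hwd' : w ∈ perp D d := ⟨hwy.1, hwd, (conj_commute_iff g d w).1 ((comm_iff hA M.co hp hW).2 hpz)⟩
    rw [map_sum, LinearMap.sum_apply, Finset.sum_congr rfl fun i _ => hsame w hwd' hwy i, ← LinearMap.sum_apply,
      ← map_sum]
    rcases h with h | h <;> rw [h]
    · simp
    · exact (comm_iff hA M.co hy hwd').1 hwy.2.2
  · intro h
    refine zero_or_of_point M.nd (M.co.mem _ hy) (label_sum hA _ _ hyi) fun z hz hyz => ?_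
    obtain ⟨w, hw, rfl⟩ := exists_pre M.co hz
    rcases eq_or_ne w y with rfl | hwy0
    · exact label_sum hA _ _ hyi
    have hwy : w ∈ perp D y := ⟨hw.1, hwy0, (comm_iff hA M.co hy hw).2 hyz⟩
    rw [map_sum, LinearMap.sum_apply, ← Finset.sum_congr rfl fun i _ => hsame w hw hwy i, ← LinearMap.sum_apply,
      ← map_sum]
    rcases h with h | h <;> rw [h]
    · simp
    · exact (comm_iff hA M.co hp ((hiff w).2 hwy)).1 ((conj_commute_iff g d w).2 hw.2.2)

theorem map_sum_three {a : Fin 3 → Fin n → ZMod 2} (h1 : ∀ i, Q (a i) = 1)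
    (h0 : ∀ i j, QuadraticMap.polarBilin Q (a i) (a j) = 0) : Q (∑ i, a i) = 1 := by
  rw [Fin.sum_univ_three, map_add', map_add', h1, h1, h1, map_add, LinearMap.add_apply, h0, h0, h0]
  rfl

theorem exclO_aux (hR : Rich D) (hn : 8 ≤ n) (hd : d ∈ D) (M : Model D d Q f) : False := by
  have hD := hR.cls
  have hA : (QuadraticMap.polarBilin Q).IsAlt := polar_alt
  obtain ⟨c, hc, hdc⟩ := ThreeTr.exists_not_commute hD hR.two hd
  obtain ⟨y, hy⟩ := exists_common hR hd hc hdc
  obtain ⟨g, -, hp, hr, hpr, hiff, hcom⟩ := exists_view hR hd hc hdc hy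
  obtain ⟨a, ha1, hapr, haa, hane⟩ := exists_triple M.nd hn (form_eq_one hA M.co hp hr hpr)
  have hsum := map_sum_three ha1 haa
  -- four members of the trace seen from `y`
  set b : Fin 4 → Fin n → ZMod 2 := Fin.cons (∑ i, a i) a with hb
  have hb1 : ∀ i, Q (b i) = 1 := fun i => by
    induction i using Fin.cases <;> simp [-QuadraticMap.polarBilin_apply_apply, hb, hsum, ha1]
  have hbp : ∀ i, (QuadraticMap.polarBilin Q) (f (g * d * g⁻¹)) (b i) = 0 ∧ (QuadraticMap.polarBilin Q) (f (g * c * g⁻¹)) (b i) = 0 := fun i => by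
    induction i using Fin.cases <;> simp [-QuadraticMap.polarBilin_apply_apply, hb, map_sum, hapr]
  have hbb : ∀ i j, (QuadraticMap.polarBilin Q) (b i) (b j) = 0 := fun i j => by
    induction i using Fin.cases <;> induction j using Fin.cases <;>
      simp [-QuadraticMap.polarBilin_apply_apply, hb, map_sum, LinearMap.sum_apply, haa, form_self hA]
  choose E hE hEb using fun i => exists_pre M.co (hb1 i)
  have hcommon : ∀ i, E i ∈ common (perp D d) (g * d * g⁻¹) (g * c * g⁻¹) := fun i => by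
    have h1 : Commute (g * d * g⁻¹) (E i) := (comm_iff hA M.co hp (hE i)).2 (by rw [hEb]; exact (hbp i).1)
    have h2 : Commute (g * c * g⁻¹) (E i) := (comm_iff hA M.co hr (hE i)).2 (by rw [hEb]; exact (hbp i).2)
    exact ⟨⟨hE i, fun e => hpr (e ▸ h2.symm), h1⟩, hE i, fun e => hpr (e ▸ h1), h2⟩
  set e : Fin 4 → G := fun i => g⁻¹ * E i * g with he
  have hge : ∀ i, g * e i * g⁻¹ = E i := fun i => by simp only [he]; group
  have hmem : ∀ i, e i ∈ common D d c ∧ e i ∈ perp D y := fun i => (hcom _).1 (by rw [hge]; exact hcommon i)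
  have hEd : ∀ i, e i ∈ perp D d := fun i => (hmem i).1.1
  have hecomm : ∀ i j, Commute (e i) (e j) := fun i j => by
    rw [← conj_commute_iff g, hge, hge, comm_iff hA M.co (hE i) (hE j), hEb, hEb]
    exact hbb i j
  have hee : ∀ i j, (QuadraticMap.polarBilin Q) (f (e i)) (f (e j)) = 0 := fun i j => (comm_iff hA M.co (hEd i) (hEd j)).1 (hecomm i j)
  have h4 : ∑ i, f (e i) = 0 := by
    have h := (transfer M hy.1 hp hiff e fun i => ⟨hEd i, (hmem i).2⟩).2 (Or.inl (by
      rw [Fin.sum_univ_succ]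
      simp only [hge, hEb, hb, Fin.cons_zero, Fin.cons_succ]
      exact add_self _))
    refine h.resolve_right fun hs => ?_
    have hq : Q (∑ i, f (e i)) = 0 := by
      rw [Fin.sum_univ_succ, map_add', map_sum_three (fun i => M.co.mem _ (hEd i.succ))
        (fun i j => hee i.succ j.succ), M.co.mem _ (hEd 0), map_sum, Finset.sum_eq_zero fun i _ => hee 0 i.succ]
      rfl
    rw [hs, M.co.mem _ hy.1] at hq
    exact one_ne_zero hq
  -- the same seen from the fourth one
  set z := e 0 with hzdef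
  obtain ⟨k, -, hp', hr', hpr', hiff', hcom'⟩ := exists_view hR hd hc hdc (hmem 0).1
  rw [← hzdef] at hiff' hcom'
  have hz : ∀ i : Fin 3, e i.succ ∈ perp D z := fun i =>
    ⟨(hEd i.succ).1, fun h => hane i (by
      have := congrArg (fun t => f (g * t * g⁻¹)) h
      simp only [hzdef, hge, hEb, hb, Fin.cons_zero, Fin.cons_succ] at this
      exact this.symm), hecomm 0 i.succ⟩
  have hsum' : ∑ i : Fin 3, f (e i.succ) = f z := by
    rw [Fin.sum_univ_succ] at h4
    exact ((eq_iff_add _ _).2 h4).symm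
  have hin : ∀ i : Fin 3, k * e i.succ * k⁻¹ ∈ common (perp D d) (k * d * k⁻¹) (k * c * k⁻¹) := fun i =>
    (hcom' _).2 ⟨(hmem i.succ).1, hz i⟩
  have h3 := (transfer M (hEd 0) hp' hiff' (fun i : Fin 3 => e i.succ) fun i => ⟨hEd i.succ, hz i⟩).1
    (Or.inr hsum')
  have hr3 : (QuadraticMap.polarBilin Q) (∑ i : Fin 3, f (k * e i.succ * k⁻¹)) (f (k * c * k⁻¹)) = 0 :=
    label_sum hA _ _ fun i => (comm_iff hA M.co hr' (hin i).1.1).1 (hin i).2.2.2
  have hq3 : Q (∑ i : Fin 3, f (k * e i.succ * k⁻¹)) = 1 :=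
    map_sum_three (fun i => M.co.mem _ (hin i).1.1) fun i j =>
      (comm_iff hA M.co (hin i).1.1 (hin j).1.1).1 ((conj_commute_iff k _ _).2 (hecomm _ _))
  rcases h3 with h3 | h3
  · rw [h3, QuadraticMap.map_zero] at hq3
    exact zero_ne_one hq3
  · rw [h3, form_eq_one hA M.co hp' hr' hpr'] at hr3
    exact one_ne_zero hr3

theorem exclO : ExclO.{u} := by
  rintro G _ _ D hS d hd n hn ⟨Q, hN, f, hf⟩
  exact exclO_aux hS.rich hn hd ⟨hN, hf⟩

end Cfsg.Lib.Fischer.OExcl
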