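import Cfsg.Agent.Fischer.ExclUSection

/-!
A unitary class of dimension five or more, six excepted, is no perp set.

In dimension at least seven the vectors of the pieces are closed under sums of orthogonal pairs, against the section
at the summand.  In dimension five a product of four transvections fixes the piece, hence the trace, and shifts a
member inside its class at a member of the piece.
-/

set_option autoImplicit false
set_option linter.unusedSectionVars false

namespace Cfsg.Lib.Fischer.ExclU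

open Cfsg Subgroup Cfsg.Lib.ThreeTr
open Cfsg.Lib.PrimeGraph (KQuad)

universe u

variable {G : Type u} [Group G] [Finite G] {D : Set G} {d c y : G} {n : ℕ} {f : G → Fin n → KQuad}
variable (hc : c ∈ D) (hdc : ¬ Commute d c) (hy : y ∈ common D d c)

theorem InPiece.smul {v : Fin n → KQuad} (h : InPiece D d c y f v) {a : KQuad} (ha : a ≠ 0) :
    InPiece D d c y f (a • v) := by
  obtain ⟨x, hx, b, hb, rfl⟩ := h
  exact ⟨x, hx, a * b, mul_ne_zero ha hb, smul_smul a b _⟩

theorem InPiece.props (K : Ctx D d f) (hy : y ∈ common D d c) {v : Fin n → KQuad} (h : InPiece D d c y f v) :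
    v ≠ 0 ∧ herm v v = 0 ∧ herm v (f y) = 0 ∧ ∀ t : KQuad, v ≠ t • f y := by
  obtain ⟨x, hx, a, ha, rfl⟩ := h
  have hxp := piece_mem hx
  refine ⟨smul_ne_zero ha (K.ne_zero hxp.1), ?_, ?_, fun t ht => ?_⟩
  · rw [herm_smul_left, herm_smul_right, K.iso hxp.1]; ring
  · rw [herm_smul_left, (K.comm_iff hxp.1 hy.1).1 hxp.2.2.symm, mul_zero]
  · refine hxp.2.1 (K.eq_of_smul hy.1 hxp.1 (a := a⁻¹ * t) ?_).symm
    rw [← smul_smul, ← ht, smul_smul, inv_mul_cancel₀ ha, one_smul]

include hc hdc hy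

/-- A class has only one vector in the piece. -/
theorem InPiece.unique (K : Ctx D d f) {v : Fin n → KQuad} {t : KQuad} (h : InPiece D d c y f v)
    (h' : InPiece D d c y f (v + t • f y)) : t = 0 := by
  obtain ⟨x, hx, a, ha, rfl⟩ := h
  obtain ⟨x', hx', a', ha', h'⟩ := h'
  have hf : f x' = (a'⁻¹ * a) • f x + (a'⁻¹ * t) • f y := by
    rw [← smul_smul, ← smul_smul, ← smul_add, h', smul_smul, inv_mul_cancel₀ ha', one_smul]
  have e := K.section_eq hc hdc hy hx hx' hf
  subst e
  by_contra ht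
  refine (InPiece.props K hy ⟨x, hx, 1, one_ne_zero, (one_smul _ _).symm⟩).2.2.2
    ((1 + a'⁻¹ * a)⁻¹ * (a'⁻¹ * t)) ?_
  have hne : (1 + a'⁻¹ * a) ≠ 0 := by
    intro h0
    rw [← CharTwo.add_eq_zero.1 h0, one_smul] at hf
    have h1 : (a'⁻¹ * t) • f y = 0 := by simpa using hf
    rcases smul_eq_zero.1 h1 with h2 | h2
    · exact mul_ne_zero (inv_ne_zero ha') ht h2
    · exact K.ne_zero hy.1 h2
  rw [← smul_smul]
  apply (eq_inv_smul_iff₀ hne).2
  rw [add_smul, one_smul]
  conv_lhs => lhs; rw [hf]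
  funext i
  simp only [Pi.add_apply, Pi.smul_apply, smul_eq_mul]
  rw [add_comm (a'⁻¹ * a * f x i), add_assoc, kq_self, add_zero]

/-- Every class has a vector in the piece. -/
theorem InPiece.exists_shift (K : Ctx D d f) {v : Fin n → KQuad} (hi : herm v v = 0) (hvy : herm v (f y) = 0)
    (hns : ∀ t : KQuad, v ≠ t • f y) : ∃ t : KQuad, InPiece D d c y f (v + t • f y) := by
  obtain ⟨x, hx, a, t, ha, h⟩ := K.lift hc hdc hy hi hvy hns
  refine ⟨a⁻¹ * t, x, hx, a⁻¹, inv_ne_zero ha, ?_⟩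
  rw [h, smul_add, smul_smul, smul_smul, inv_mul_cancel₀ ha, one_smul]

/-- The vectors of the piece are closed under transvections at one another. -/
theorem InPiece.tv (K : Ctx D d f) {u v : Fin n → KQuad} (hu : InPiece D d c y f u) (hv : InPiece D d c y f v) :
    InPiece D d c y f (tv u v) := by
  obtain ⟨x, hx, a, ha, rfl⟩ := hu
  obtain ⟨e, he, b, hb, rfl⟩ := hv
  obtain ⟨-, r, hr, h⟩ := K.conj_member hx.1.1 he.1.1
  refine ⟨_, K.piece_closed hc hdc hy hx he, b * r⁻¹, mul_ne_zero hb (inv_ne_zero hr), ?_⟩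
  rw [tv_smul_center ha, tv_smul, h, smul_smul, inv_mul_cancel_right₀ hr]

/-- A vector of the piece lies in a hyperbolic plane all whose points are vectors of the piece. -/
theorem exists_frame (K : Ctx D d f) {u v : Fin n → KQuad} (hu : InPiece D d c y f u) (huv : herm u v = 0)
    (hvy : herm v (f y) = 0) (hout : ∀ s t : KQuad, u ≠ s • f y + t • v)
    (hk : ∀ w : Fin n → KQuad, ∃ k, (∀ i, herm k (![f y, v, u, w] i) = 0) ∧ ∀ s t : KQuad, k ≠ s • f y + t • v) :
    ∃ A e, Frame3 u A e ∧ herm A (f y) = 0 ∧ herm e (f y) = 0 ∧ herm A v = 0 ∧ herm e v = 0 ∧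
      ∀ x : Fin 3 → KQuad, x ≠ 0 → H3 x x = 0 → InPiece D d c y f (phi u A e x) := by
  obtain ⟨-, huu, huy, -⟩ := hu.props K hy
  have hYY := K.iso hy.1
  have hyu := herm_symm_zero huy
  have hvu := herm_symm_zero huv
  have hyv := herm_symm_zero hvy
  obtain ⟨w₀, hw₀, hw₀u⟩ := exists_perp_one ![f y, v] u fun h => by
    obtain ⟨s, t, h⟩ := mem_span_two h
    exact hout s t h
  obtain ⟨c₁, hc₁⟩ := exists_iso_adjust huu hw₀u
  set w₁ := w₀ + c₁ • u
  have hw₁y : herm w₁ (f y) = 0 := by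
    simp only [w₁, herm_add_left, herm_smul_left, show herm w₀ (f y) = 0 from hw₀ 0, huy]; ring
  have hw₁v : herm w₁ v = 0 := by
    simp only [w₁, herm_add_left, herm_smul_left, show herm w₀ v = 0 from hw₀ 1, huv]; ring
  have hw₁u : herm w₁ u = 1 := by simp only [w₁, herm_add_left, herm_smul_left, hw₀u, huu]; ring
  obtain ⟨s₁, hA⟩ := InPiece.exists_shift hc hdc hy K hc₁ hw₁y fun t h => by
    rw [h, herm_smul_left, hyu, mul_zero] at hw₁u
    exact zero_ne_one hw₁u
  set A := w₁ + s₁ • f y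
  have hAy : herm A (f y) = 0 := by simp only [A, herm_add_left, herm_smul_left, hw₁y, hYY]; ring
  have hAv : herm A v = 0 := by simp only [A, herm_add_left, herm_smul_left, hw₁v, hyv]; ring
  have hAu : herm A u = 1 := by simp only [A, herm_add_left, herm_smul_left, hw₁u, hyu]; ring
  obtain ⟨-, hAA, -, -⟩ := hA.props K hy
  obtain ⟨k, hk1, hk2⟩ := hk A
  obtain ⟨e₀, he₀, he₀1⟩ := exists_norm_one ![f y, v, u, A] hk1 fun h => by
    obtain ⟨r, s, t, m, rfl⟩ := mem_span_four h
    have hku := hk1 2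
    have hkA := hk1 3
    simp [herm_add_left, herm_smul_left, hyu, hvu, huu, hAu] at hku
    simp [herm_add_left, herm_smul_left, herm_symm_zero hAy, herm_symm_zero hAv, hAA, herm_symm_one hAu] at hkA
    exact hk2 r s (by simp [hku, hkA])
  have he₀y : herm e₀ (f y) = 0 := he₀ 0
  have he₀v : herm e₀ v = 0 := he₀ 1
  have he₀u : herm e₀ u = 0 := he₀ 2
  have he₀A : herm e₀ A = 0 := he₀ 3
  have F₀ : Frame3 u A e₀ :=
    ⟨huu, hAA, herm_symm_one hAu, herm_symm_zero he₀u, herm_symm_zero he₀A, he₀1⟩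
  obtain ⟨s, hB⟩ := InPiece.exists_shift hc hdc hy K (v := phi u A e₀ (reps 2))
    (by rw [herm_phi F₀]; decide +kernel)
    (by simp only [phi, herm_add_left, herm_smul_left, huy, hAy, he₀y]; ring) fun t h => by
      have h1 : herm (phi u A e₀ (reps 2)) u = 0 := by rw [h, herm_smul_left, hyu, mul_zero]
      simp [phi, reps, herm_add_left, herm_smul_left, huu, hAu, he₀u] at h1
  set e := e₀ + s • f y
  have hee : herm e e = 1 := by
    simp only [e, herm_add_left, herm_add_right, herm_smul_left, herm_smul_right, he₀1, he₀y,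
      herm_symm_zero he₀y, hYY]
    ring
  have heu : herm e u = 0 := by simp only [e, herm_add_left, herm_smul_left, he₀u, hyu]; ring
  have heA : herm e A = 0 := by simp only [e, herm_add_left, herm_smul_left, he₀A, herm_symm_zero hAy]; ring
  have F : Frame3 u A e := ⟨huu, hAA, herm_symm_one hAu, herm_symm_zero heu, herm_symm_zero heA, hee⟩
  refine ⟨A, e, F, hAy, by simp only [e, herm_add_left, herm_smul_left, he₀y, hYY]; ring, hAv,
    by simp only [e, herm_add_left, herm_smul_left, he₀v, hyv]; ring, fun x hx hi => ?_⟩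
  refine gen_three (P := fun x => InPiece D d c y f (phi u A e x)) (fun a x ha h => ?_) (fun a x ha h => ?_)
    ?_ ?_ ?_ hx hi
  · rw [phi_smul]; exact h.smul ha
  · rw [← tv_phi F]; exact InPiece.tv hc hdc hy K ha h
  · simpa [phi, reps] using hu
  · simpa [phi, reps] using hA
  · convert hB using 1
    simp [phi, reps, e, smul_add]
    abel

/-- Orthogonal sums move along edges. -/
theorem step (K : Ctx D d f) {a b v : Fin n → KQuad} {t : KQuad} (ha : InPiece D d c y f a)
    (hb : InPiece D d c y f b) (hv : InPiece D d c y f v) (hab : herm a b = 1) (hav : herm a v = 0)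
    (hbv : herm b v = 0) (h : InPiece D d c y f (a + v + t • f y)) : InPiece D d c y f (b + v + t • f y) := by
  obtain ⟨-, -, hay, -⟩ := ha.props K hy
  obtain ⟨-, hbb, hby, -⟩ := hb.props K hy
  obtain ⟨-, hvv, hvy, -⟩ := hv.props K hy
  have h1 := InPiece.tv hc hdc hy K h hb
  have e1 : tv (a + v + t • f y) b = a + b + v + t • f y := by
    rw [ExclU.tv, herm_add_right, herm_add_right, herm_smul_right, herm_symm_one hab, hbv, hby, mul_zero, add_zero,
      add_zero, one_smul]
    abel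
  obtain ⟨s, hs⟩ := InPiece.exists_shift hc hdc hy K (v := b + v)
    (by rw [herm_self_add, hbb, hvv, hbv]; simp) (by rw [herm_add_left, hby, hvy, add_zero]) fun r hr => by
      have : herm (b + v) a = 0 := by rw [hr, herm_smul_left, herm_symm_zero hay, mul_zero]
      rw [herm_add_left, herm_symm_one hab, herm_symm_zero hav, add_zero] at this
      exact one_ne_zero this
  have h2 := InPiece.tv hc hdc hy K hs ha
  have e2 : tv (b + v + s • f y) a = a + b + v + s • f y := by
    rw [ExclU.tv, herm_add_right, herm_add_right, herm_smul_right, hab, hav, hay, mul_zero, add_zero,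
      add_zero, one_smul]
    abel
  rw [e1] at h1
  rw [e2] at h2
  have h3 := InPiece.unique hc hdc hy K (t := s + t) h2 (by
    have : a + b + v + s • f y + (s + t) • f y = a + b + v + t • f y := by
      funext i
      simp only [Pi.add_apply, Pi.smul_apply, smul_eq_mul]
      rw [add_mul, add_assoc, ← add_assoc (s * f y i), kq_self, zero_add]
    rw [this]; exact h1)
  rwa [CharTwo.add_eq_zero.1 h3] at hs

/-- Two classes orthogonal to each other: their sum is again in the piece. -/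
theorem add_mem (K : Ctx D d f) (hn : 7 ≤ n) {u v : Fin n → KQuad} (hu : InPiece D d c y f u)
    (hv : InPiece D d c y f v) (huv : herm u v = 0) (hout : ∀ s t : KQuad, u ≠ s • f y + t • v) :
    InPiece D d c y f (u + v) := by
  have key : ∀ {u v : Fin n → KQuad}, InPiece D d c y f u → InPiece D d c y f v → herm u v = 0 →
      (∀ s t : KQuad, u ≠ s • f y + t • v) → ∀ t : KQuad, InPiece D d c y f (u + v + t • f y) →
      InPiece D d c y f (om • u + v + t • f y) := by
    intro u v hu hv huv hout t h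
    obtain ⟨A, e, F, hAy, -, hAv, hev, hP⟩ := exists_frame hc hdc hy K hu huv (hv.props K hy).2.2.1 hout fun w => by
      obtain ⟨k, hk, hks⟩ := exists_perp_not_mem ![f y, v, u, w] ![f y, v] (by omega)
      exact ⟨k, hk, fun s t e => hks ((Submodule.mem_span_range_iff_exists_fun _).2
        ⟨![s, t], by simp [Fin.sum_univ_two, e]⟩)⟩
    obtain ⟨f1, f2, f3, f4⟩ := chain_facts
    have hperp : ∀ x : Fin 3 → KQuad, herm (phi u A e x) v = 0 := fun x => by
      simp only [phi, herm_add_left, herm_smul_left, huv, hAv, hev]; ring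
    have hx0 : phi u A e ![1, 0, 0] = u := by simp [phi]
    have hx3 : phi u A e ![om, 0, 0] = om • u := by simp [phi]
    have p0 := hP ![1, 0, 0] (by simp) (by decide +kernel)
    have p1 := hP ![0, 1, 0] (by simp) (by decide +kernel)
    have p2 := hP ![1, om, 1] (by simp) f4
    have p3 := hP ![om, 0, 0] (by simp [om_ne_zero]) (by decide +kernel)
    have s1 := step hc hdc hy K p0 p1 hv (by rw [herm_phi F]; exact f1) (hperp _) (hperp _) (by rw [hx0]; exact h)
    have s2 := step hc hdc hy K p1 p2 hv (by rw [herm_phi F]; exact f2) (hperp _) (hperp _) s1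
    have s3 := step hc hdc hy K p2 p3 hv (by rw [herm_phi F]; exact f3) (hperp _) (hperp _) s2
    rwa [hx3] at s3
  obtain ⟨-, huu, huy, hun⟩ := hu.props K hy
  obtain ⟨-, hvv, hvy, hvn⟩ := hv.props K hy
  obtain ⟨t, ht⟩ := InPiece.exists_shift hc hdc hy K (v := u + v)
    (by rw [herm_self_add, huu, hvv, huv]; simp) (by rw [herm_add_left, huy, hvy, add_zero]) fun r hr => by
      refine hout r 1 ?_
      funext i
      have := congrFun hr i
      simp only [Pi.add_apply, Pi.smul_apply, smul_eq_mul] at this ⊢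
      rw [← this, one_mul, add_assoc, kq_self, add_zero]
  have h1 := key hu hv huv hout t ht
  have hout2 : ∀ s r : KQuad, v ≠ s • f y + r • (om • u) := fun s r h => by
    by_cases hr : r = 0
    · exact hvn s (by rw [h, hr, zero_smul, add_zero])
    refine hout ((r * om)⁻¹ * s) (r * om)⁻¹ ?_
    rw [h, smul_smul r, smul_add, smul_smul, smul_smul, inv_mul_cancel₀ (mul_ne_zero hr om_ne_zero), one_smul,
      ← add_assoc]
    funext i
    simp [kq_self]
  have h2 := key hv (hu.smul om_ne_zero) (by rw [herm_smul_right, herm_symm_zero huv, mul_zero]) hout2 t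
    (by rwa [add_comm v])
  have h3 := ht.smul om_ne_zero
  have h4 := InPiece.unique hc hdc hy K (t := om * t + t) h3 (by
    convert h2 using 1
    funext i
    simp only [Pi.add_apply, Pi.smul_apply, smul_eq_mul]
    rw [mul_add, mul_add, add_mul, add_assoc (om * u i + om * v i), ← add_assoc (om * (t * f y i)), ← mul_assoc,
      kq_self, zero_add, add_comm (om * u i)])
  have ht0 : t = 0 := by
    have : (om + 1) * t = 0 := by rw [add_mul, one_mul]; exact h4
    exact (mul_eq_zero.1 this).resolve_left fun h => om_ne_one (CharTwo.add_eq_zero.1 h)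
  simpa [ht0] using ht

/-- Dimension seven and more. -/
theorem false_of_seven (K : Ctx D d f) (hn : 7 ≤ n) : False := by
  obtain ⟨u₀, hu₀, hu₀n, hu₀i⟩ := exists_iso_perp ![f y] (by omega)
  have hns : ∀ t : KQuad, u₀ ≠ t • f y := fun t h => hu₀n ((Submodule.mem_span_range_iff_exists_fun _).2
    ⟨![t], by simp [h]⟩)
  obtain ⟨s, hu⟩ := InPiece.exists_shift hc hdc hy K hu₀i (hu₀ 0) hns
  set u := u₀ + s • f y
  obtain ⟨v₀, hv₀, hv₀n, hv₀i⟩ := exists_iso_perp ![f y, u] (by omega)
  have hvout : ∀ a b : KQuad, v₀ ≠ a • f y + b • u := fun a b h => hv₀n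
    ((Submodule.mem_span_range_iff_exists_fun _).2 ⟨![a, b], by simp [Fin.sum_univ_two, h]⟩)
  obtain ⟨r, hv⟩ := InPiece.exists_shift hc hdc hy K hv₀i (hv₀ 0) fun t h => hvout t 0 (by simp [h])
  set v := v₀ + r • f y
  obtain ⟨-, huu, huy, hun⟩ := hu.props K hy
  have huv : herm u v = 0 := herm_symm_zero (by
    simp only [v, herm_add_left, herm_smul_left, show herm v₀ u = 0 from hv₀ 1, herm_symm_zero huy]; ring)
  have hout : ∀ a b : KQuad, u ≠ a • f y + b • v := by
    intro a b h
    by_cases hb : b = 0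
    · exact hun a (by rw [h, hb, zero_smul, add_zero])
    refine hvout (b⁻¹ * a + r) b⁻¹ ?_
    rw [h]
    funext i
    simp only [v, Pi.add_apply, Pi.smul_apply, smul_eq_mul]
    rw [mul_add, ← mul_assoc b⁻¹ b, inv_mul_cancel₀ hb, one_mul, ← mul_assoc, add_mul]
    linear_combination (-1 : KQuad) * kq_self (b⁻¹ * a * f y i + r * f y i)
  have hsum := add_mem hc hdc hy K hn hu hv huv hout
  have hus := hsum.props K hy
  obtain ⟨xu, hxu, a, ha, hua⟩ := hu
  obtain ⟨xv, hxv, b, hb, hvb⟩ := hv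
  obtain ⟨xs, hxs, l, hl, hsl⟩ := hsum
  have hvu0 : herm v u = 0 := herm_symm_zero huv
  have hc1 : Commute xu xv := by
    rw [K.commute_of_rep ha hxu.1.1 hua hxv.1.1]
    rw [hvb, herm_smul_right, mul_eq_zero, or_iff_right (pow_ne_zero 2 hb)] at huv
    exact huv
  have hc2 : Commute xu xs := by
    rw [K.commute_of_rep ha hxu.1.1 hua hxs.1.1]
    have : herm u (u + v) = 0 := by rw [herm_add_right, huu, huv, add_zero]
    rwa [hsl, herm_smul_right, mul_eq_zero, or_iff_right (pow_ne_zero 2 hl)] at this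
  have hne1 : xv ≠ xu := fun e => hout 0 (a * b⁻¹) (by
    rw [hua, hvb, e, smul_smul, inv_mul_cancel_right₀ hb]; simp)
  have hne2 : xs ≠ xu := fun e => by
    refine hvout r (1 + l * a⁻¹) ?_
    have h2 : u + v = (l * a⁻¹) • u := by rw [hsl, e, hua, smul_smul, inv_mul_cancel_right₀ ha]
    funext i
    have := congrFun h2 i
    simp only [v, Pi.add_apply, Pi.smul_apply, smul_eq_mul] at this ⊢
    linear_combination this - kq_self (u i) - kq_self (r * f y i)
  have e := K.section_eq hc hdc hxu.1 (a := xv) (b := xs) ⟨hxv.1, hxv.1.1.1, hne1, hc1⟩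
    ⟨hxs.1, hxs.1.1.1, hne2, hc2⟩ (s := l⁻¹ * b) (t := l⁻¹ * a) (by
      rw [← smul_smul, ← hvb, ← smul_smul, ← hua, ← smul_add, add_comm v, hsl, smul_smul, inv_mul_cancel₀ hl,
        one_smul])
  subst e
  refine hout 0 (l * b⁻¹ + 1) ?_
  funext i
  have h1 := congrFun hsl i
  have h2 := congrFun hvb i
  simp only [Pi.add_apply, Pi.smul_apply, smul_eq_mul] at h1 h2 ⊢
  have h3 : l * b⁻¹ * v i = l * f xv i := by rw [h2, ← mul_assoc, inv_mul_cancel_right₀ hb]
  linear_combination h1 - h3 - kq_self (v i)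

/-- Four members realise the product of the four transvections. -/
theorem conj_four (K : Ctx D d f) {Z A e Y W : Fin n → KQuad} (F : Frame5 Z A e Y W) :
    ∃ k : G, Commute k d ∧ ∀ x ∈ perp D d, ∀ v : Fin 5 → KQuad, ∀ a : KQuad, a ≠ 0 → f x = a • psi Z A e Y W v →
      k * x * k⁻¹ ∈ perp D d ∧ ∃ b : KQuad, b ≠ 0 ∧ f (k * x * k⁻¹) = b • psi Z A e Y W (kmap v) := by
  have hmem : ∀ i, ∃ x ∈ perp D d, ∃ a : KQuad, a ≠ 0 ∧ psi Z A e Y W (cs i) = a • f x := fun i => by
    refine K.member (fun h => (kmap_facts.1 i).2 (psi_injective F (by rw [h]; simp [psi]))) ?_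
    rw [herm_psi F]; exact (kmap_facts.1 i).1
  choose x hx a ha hxa using hmem
  have hone : ∀ i, ∀ z ∈ perp D d, ∀ v : Fin 5 → KQuad, ∀ b : KQuad, b ≠ 0 → f z = b • psi Z A e Y W v →
      x i * z * x i ∈ perp D d ∧
        ∃ b' : KQuad, b' ≠ 0 ∧ f (x i * z * x i) = b' • psi Z A e Y W (tv5 (cs i) v) := by
    intro i z hz v b hb hfz
    obtain ⟨hm, r, hr, hf⟩ := K.conj_member (hx i) hz
    refine ⟨hm, r * b, mul_ne_zero hr hb, ?_⟩
    rw [hf, ← tv_psi F, hxa i, tv_smul_center (ha i), hfz, tv_smul, smul_smul]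
  refine ⟨x 3 * x 2 * x 1 * x 0, ?_, fun z hz v b hb hfz => ?_⟩
  · exact ((((hx 3).2.2.symm.mul_left (hx 2).2.2.symm).mul_left (hx 1).2.2.symm).mul_left (hx 0).2.2.symm)
  · obtain ⟨m0, b0, hb0, e0⟩ := hone 0 z hz v b hb hfz
    obtain ⟨m1, b1, hb1, e1⟩ := hone 1 _ m0 _ b0 hb0 e0
    obtain ⟨m2, b2, hb2, e2⟩ := hone 2 _ m1 _ b1 hb1 e1
    obtain ⟨m3, b3, hb3, e3⟩ := hone 3 _ m2 _ b2 hb2 e2
    have : x 3 * x 2 * x 1 * x 0 * z * (x 3 * x 2 * x 1 * x 0)⁻¹ =
        x 3 * (x 2 * (x 1 * (x 0 * z * x 0) * x 1) * x 2) * x 3 := by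
      rw [mul_inv_rev, mul_inv_rev, mul_inv_rev, inv_eq K.cls.1 (hx 0).1, inv_eq K.cls.1 (hx 1).1,
        inv_eq K.cls.1 (hx 2).1, inv_eq K.cls.1 (hx 3).1]
      simp only [mul_assoc]
    rw [this]
    refine ⟨m3, b3, hb3, ?_⟩
    simp only [kmap]
    with_reducible exact e3

/-- Dimension five. -/
theorem false_of_five (K : Ctx D d f) (hn : n = 5) : False := by
  subst hn
  have hYY := K.iso hy.1
  obtain ⟨u₀, hu₀, hu₀n, hu₀i⟩ := exists_iso_perp ![f y] (by omega)
  obtain ⟨s, hu⟩ := InPiece.exists_shift hc hdc hy K hu₀i (hu₀ 0) fun t h =>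
    hu₀n ((Submodule.mem_span_range_iff_exists_fun _).2 ⟨![t], by simp [h]⟩)
  set u := u₀ + s • f y
  obtain ⟨-, huu, huy, hun⟩ := hu.props K hy
  obtain ⟨A, e, F, hAy, hey, -, -, hP⟩ := exists_frame hc hdc hy K hu (v := f y) huy hYY
    (fun a b h => hun (a + b) (by rw [h, add_smul])) fun w => by
      obtain ⟨k, hk, hks⟩ := exists_perp_not_mem ![f y, u, w] ![f y] (by omega)
      refine ⟨k, fun i => ?_, fun a b h => hks ((Submodule.mem_span_range_iff_exists_fun _).2
        ⟨![a + b], by simp [h, add_smul]⟩)⟩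
      fin_cases i
      exacts [hk 0, hk 0, hk 1, hk 2]
  obtain ⟨W₀, hW₀, hW₀y⟩ := exists_perp_one ![u, A, e] (f y) fun h => by
    obtain ⟨r, a, m, h⟩ := mem_span_three h
    have e1 := herm_symm_zero huy
    have e2 := herm_symm_zero hAy
    have e3 := herm_symm_zero hey
    rw [h, herm_add_left, herm_add_left, herm_smul_left, herm_smul_left, herm_smul_left] at e1 e2 e3
    simp [F.ZZ, herm_symm_one F.ZA, herm_symm_zero F.Ze] at e1
    simp [F.AA, F.ZA, herm_symm_zero F.Ae] at e2
    simp [F.ee, F.Ze, F.Ae] at e3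
    exact K.ne_zero hy.1 (by rw [h, e1, e2, e3]; simp)
  obtain ⟨c₁, hW⟩ := exists_iso_adjust hYY hW₀y
  set W := W₀ + c₁ • f y
  have F5 : Frame5 u A e (f y) W :=
    { F with
      YY := hYY, WW := hW, ZY := huy, AY := hAy, eY := hey
      YW := herm_symm_one (by simp only [W, herm_add_left, herm_smul_left, hW₀y, hYY]; ring)
      ZW := herm_symm_zero (by
        simp only [W, herm_add_left, herm_smul_left, show herm W₀ u = 0 from hW₀ 0, herm_symm_zero huy]; ring)
      AW := herm_symm_zero (by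
        simp only [W, herm_add_left, herm_smul_left, show herm W₀ A = 0 from hW₀ 1, herm_symm_zero hAy]; ring)
      eW := herm_symm_zero (by
        simp only [W, herm_add_left, herm_smul_left, show herm W₀ e = 0 from hW₀ 2, herm_symm_zero hey]; ring) }
  set Ψ := psi u A e (f y) W
  have hinj : Function.Injective Ψ := psi_injective F5
  have hsurj : Function.Surjective Ψ := Finite.injective_iff_surjective.1 hinj
  obtain ⟨hcs, kY, kZ, kv, hv0, hv0Z, kW⟩ := kmap_facts
  have psiY : Ψ ![0, 0, 0, 1, 0] = f y := by simp [Ψ, psi]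
  have psiZ : Ψ ![1, 0, 0, 0, 0] = u := by simp [Ψ, psi]
  obtain ⟨k, hkd, hk⟩ := conj_four hc hdc hy K F5
  have hky : k * y * k⁻¹ = y := by
    obtain ⟨hm, b, hb, hf⟩ := hk y hy.1 ![0, 0, 0, 1, 0] 1 one_ne_zero (by rw [one_smul]; exact psiY.symm)
    exact (K.eq_of_smul hy.1 hm (a := b) (by rw [hf, kY]; exact congrArg _ psiY)).symm
  have hflat : ∀ x : Fin 3 → KQuad, Ψ ![x 0, x 1, x 2, 0, 0] = phi u A e x := fun x => by simp [Ψ, psi, phi]
  have hstab : ∀ x ∈ piece D d c y, k * x * k⁻¹ ∈ piece D d c y := by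
    intro x hx
    have hP1 : InPiece D d c y f (f x) := ⟨x, hx, 1, one_ne_zero, (one_smul _ _).symm⟩
    obtain ⟨hx0, hxi, hxy, hxn⟩ := hP1.props K hy
    obtain ⟨v, hv⟩ := hsurj (f x)
    have h4 : v 4 = 0 := by
      have h := hxy
      rw [← hv, ← psiY] at h
      change herm (psi u A e (f y) W v) (psi u A e (f y) W _) = 0 at h
      rw [herm_psi F5] at h
      simpa [H5] using h
    set w : Fin 3 → KQuad := ![v 0, v 1, v 2]
    have hfx : f x = phi u A e w + v 3 • f y := by
      rw [← hv]; simp [Ψ, psi, phi, w, h4]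
    have hwi : H3 w w = 0 := by
      have h := hxi
      rw [← hv] at h
      change herm (psi u A e (f y) W v) (psi u A e (f y) W v) = 0 at h
      rw [herm_psi F5] at h
      simpa [H5, H3, w, h4] using h
    have hw0 : w ≠ 0 := fun h => hxn (v 3) (by rw [hfx, h]; simp [phi])
    have h3 : v 3 = 0 := InPiece.unique hc hdc hy K (hP w hw0 hwi) (by rw [← hfx]; exact hP1)
    obtain ⟨hm, b, hb, hf⟩ := hk x hx.1.1 ![w 0, w 1, w 2, 0, 0] 1 one_ne_zero (by
      rw [one_smul]; show f x = Ψ _; rw [hflat, hfx, h3, zero_smul, add_zero])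
    obtain ⟨k3, k4⟩ := kW w
    set w' := kmap ![w 0, w 1, w 2, 0, 0]
    have hw' : w' = ![w' 0, w' 1, w' 2, 0, 0] := by
      funext i; fin_cases i <;> first | rfl | exact k3 | exact k4
    set w3 : Fin 3 → KQuad := ![w' 0, w' 1, w' 2]
    have hf' : f (k * x * k⁻¹) = b • phi u A e w3 := by
      rw [hf]
      congr 1
      show Ψ w' = _
      rw [hw']
      exact hflat w3
    have hi3 : H3 w3 w3 = 0 := by
      have h := K.iso hm
      rw [hf', herm_smul_left, herm_smul_right, herm_phi F] at h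
      exact (mul_eq_zero.1 ((mul_eq_zero.1 h).resolve_left hb)).resolve_left (pow_ne_zero 2 hb)
    have h30 : w3 ≠ 0 := fun h => K.ne_zero hm (by rw [hf', h]; simp [phi])
    obtain ⟨x', hx', a, ha, hxa⟩ := hP w3 h30 hi3
    have e' := K.eq_of_smul hx'.1.1 hm (a := b * a) (by rw [hf', hxa, smul_smul])
    exact e' ▸ hx'
  obtain ⟨xu, hxu, a, ha, hua⟩ := hu
  have hfxu : f xu = a⁻¹ • Ψ ![1, 0, 0, 0, 0] := by rw [psiZ, hua, smul_smul, inv_mul_cancel₀ ha, one_smul]
  have hkxu : k * xu * k⁻¹ = xu := by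
    obtain ⟨hm, b, hb, hf⟩ := hk xu hxu.1.1 _ a⁻¹ (inv_ne_zero ha) hfxu
    exact (K.eq_of_smul hxu.1.1 hm (a := b * a) (by
      rw [hf, kZ, hfxu, smul_smul, mul_assoc, mul_inv_cancel₀ ha, mul_one])).symm
  set v0 : Fin 5 → KQuad := ![0, 0, 1, 1, om]
  obtain ⟨w, hw, r, m, hr, hfw⟩ := K.lift hc hdc hxu.1 (v := Ψ v0)
    (by show herm (psi _ _ _ _ _ v0) _ = 0; rw [herm_psi F5]; exact hv0)
    (by
      rw [hfxu, herm_smul_right]
      show _ * herm (psi _ _ _ _ _ v0) (psi _ _ _ _ _ _) = 0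
      rw [herm_psi F5, hv0Z, mul_zero])
    fun t h => by
      rw [hfxu, smul_smul] at h
      have := congrFun (hinj (h.trans (psi_smul _ _ _ _ _ _ _).symm)) 2
      simp [v0] at this
  set v : Fin 5 → KQuad := r • v0 + (m * a⁻¹) • ![1, 0, 0, 0, 0]
  have hfv : f w = Ψ v := by
    rw [hfw, hfxu]
    simp only [v, Ψ, psi, Pi.add_apply, Pi.smul_apply, smul_eq_mul, add_smul, smul_add, smul_smul, mul_assoc]
    abel
  obtain ⟨hm, b, hb, hf⟩ := hk w hw.1.1 v 1 one_ne_zero (by rw [one_smul]; exact hfv)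
  have hkw : k * w * k⁻¹ ∈ piece D d c xu := by
    refine ⟨K.stable hc hdc hy hkd hky hstab hw.1, (ThreeTr.conj_mem K.cls k hw.2.1), ?_, ?_⟩
    · intro h; exact hw.2.2.1 (conj_image_injective k (h.trans hkxu.symm))
    · have := (conj_commute_iff k xu w).2 hw.2.2.2
      rwa [hkxu] at this
  have hkv : kmap v = r • ![om, 0, 1, 1, om] + (m * a⁻¹) • ![1, 0, 0, 0, 0] := by
    simp only [v, kmap_add, kmap_smul, kv, kZ, v0]
  have e : w = k * w * k⁻¹ := K.section_eq hc hdc hxu.1 hw hkw (s := b) (t := b * r * om * a) (by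
    rw [hf, hfv, hfxu, hkv, smul_smul]
    show b • Ψ _ = b • Ψ _ + _
    simp only [v, v0, Ψ, psi, Pi.add_apply, Pi.smul_apply, smul_eq_mul, smul_add, smul_smul, add_smul,
      mul_assoc, mul_inv_cancel₀ ha, mul_one, Matrix.cons_val_zero, Matrix.cons_val_one, Matrix.cons_val,
      mul_zero, zero_add, zero_smul, add_zero]
    abel)
  rw [← e, hfv] at hf
  have h5 := hinj (hf.trans (psi_smul _ _ _ _ _ _ _).symm)
  rw [hkv] at h5
  have c2 := congrFun h5 2
  have c0 := congrFun h5 0
  simp [v, v0] at c2 c0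
  have hb1 : b = 1 := mul_right_cancel₀ hr (by rw [one_mul]; first | exact c2 | exact c2.symm)
  subst hb1
  simp [hr, om_ne_zero] at c0

end Cfsg.Lib.Fischer.ExclU

namespace Cfsg.Lib.Fischer

open Cfsg.Lib.ThreeTr ExclU

universe u

/-- A unitary class of dimension five or more, six excepted, is no perp set. -/
theorem exclU : ExclU.{u} := by
  intro G _ _ D hS d hd n hn hn6 ⟨f, hco⟩
  have K : Ctx D d f := ⟨hS, hd, hn, hco⟩
  obtain ⟨x, hx⟩ := hS.rich.exists_perp hd
  obtain ⟨c, hc, -, hdc⟩ := hS.rich.exists_sep hd hx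
  obtain ⟨y, hy⟩ := exists_common hS.rich hd hc hdc
  rcases (show n = 5 ∨ 7 ≤ n by omega) with h | h
  · exact false_of_five hc hdc hy K h
  · exact false_of_seven hc hdc hy K h

end Cfsg.Lib.Fischer
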