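import Cfsg.Agent.Fischer.Base

/-!
Perp sets that are transposition classes: every other member singles out a point, two members each, so the class
is the transposition class of degree two higher.
-/

set_option autoImplicit false
set_option linter.unusedSectionVars false

namespace Cfsg.Lib.Fischer.SymStep

open Cfsg Subgroup Cfsg.Lib.ThreeTr

universe u

variable {G : Type u} [Group G] [Finite G] {D : Set G} {d : G} {n : ℕ} {f : G → Finset (Fin n)}

/-- The perp set of `d` is labelled by the pairs from `n` points. -/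
structure Lab (D : Set G) (d : G) (n : ℕ) (f : G → Finset (Fin n)) : Prop where
  setting : Setting D
  mem : d ∈ D
  five : 5 ≤ n
  six : n ≠ 6
  bij : Set.BijOn f (perp D d) {s | s.card = 2}
  comm : ∀ x ∈ perp D d, ∀ y ∈ perp D d, x ≠ y → (Commute x y ↔ Disjoint (f x) (f y))

/-- An intersecting family of pairs, other than a triangle, has a common point. -/
theorem exists_point (F : Finset (Finset (Fin n))) (hne : F.Nonempty) (h2 : ∀ s ∈ F, s.card = 2)
    (hint : ∀ s ∈ F, ∀ t ∈ F, ¬ Disjoint s t) (h3 : F.card ≠ 3) : ∃ r, ∀ s ∈ F, r ∈ s := by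
  classical
  obtain ⟨s, hs⟩ := hne
  obtain ⟨a, b, hab, rfl⟩ := Finset.card_eq_two.1 (h2 s hs)
  by_contra hcon
  push Not at hcon
  obtain ⟨t, ht, hat⟩ := hcon a
  obtain ⟨u, hu, hbu⟩ := hcon b
  have hmeet : ∀ v ∈ F, a ∈ v ∨ b ∈ v := fun v hv => by
    have := hint _ hs v hv
    simp only [Finset.disjoint_insert_left, Finset.disjoint_singleton_left] at this
    tauto
  have htb : b ∈ t := (hmeet t ht).resolve_left hat
  have hua : a ∈ u := (hmeet u hu).resolve_right hbu
  obtain ⟨p, hpt, hpu⟩ := Finset.not_disjoint_iff.1 (hint t ht u hu)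
  have hpa : p ≠ a := fun h => hat (h ▸ hpt)
  have hpb : p ≠ b := fun h => hbu (h ▸ hpu)
  have et : t = {b, p} := (Finset.eq_of_subset_of_card_le
    (by simp [Finset.insert_subset_iff, htb, hpt]) (by rw [h2 t ht, Finset.card_pair hpb.symm])).symm
  have eu : u = {a, p} := (Finset.eq_of_subset_of_card_le
    (by simp [Finset.insert_subset_iff, hua, hpu]) (by rw [h2 u hu, Finset.card_pair hpa.symm])).symm
  refine h3 ?_
  have hF : F = {{a, b}, {b, p}, {a, p}} := by
    ext v
    simp only [Finset.mem_insert, Finset.mem_singleton]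
    refine ⟨fun hv => ?_, fun hv => ?_⟩
    · have m1 := hmeet v hv
      have m2 := hint t ht v hv
      have m3 := hint u hu v hv
      rw [et] at m2; rw [eu] at m3
      simp only [Finset.disjoint_insert_left, Finset.disjoint_singleton_left] at m2 m3
      have hv2 := h2 v hv
      have sub : ∀ {x y : Fin n}, x ≠ y → x ∈ v → y ∈ v → v = {x, y} := fun hxy hx hy =>
        (Finset.eq_of_subset_of_card_le (by simp [Finset.insert_subset_iff, hx, hy])
          (by rw [hv2, Finset.card_pair hxy])).symm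
      by_cases ha' : a ∈ v
      · by_cases hb' : b ∈ v
        · exact Or.inl (sub hab ha' hb')
        · exact Or.inr (Or.inr (sub hpa.symm ha' (by tauto)))
      · exact Or.inr (Or.inl (sub hpb.symm (m1.resolve_left ha') (by tauto)))
    · rcases hv with rfl | rfl | rfl
      exacts [hs, et ▸ ht, eu ▸ hu]
  rw [hF]
  refine Finset.card_eq_three.2 ⟨_, _, _, ?_, ?_, ?_, rfl⟩
  · intro e; have : p ∈ ({a, b} : Finset (Fin n)) := e ▸ Finset.mem_insert_of_mem (Finset.mem_singleton_self p)
    simp [hpa, hpb] at this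
  · intro e; have : p ∈ ({a, b} : Finset (Fin n)) := e ▸ Finset.mem_insert_of_mem (Finset.mem_singleton_self p)
    simp [hpa, hpb] at this
  · intro e; have : b ∈ ({a, p} : Finset (Fin n)) := e ▸ Finset.mem_insert_self b _
    simp [hab.symm, hpb.symm] at this

/-- Points outside a small set. -/
theorem exists_two_outside {U : Finset (Fin n)} (h : U.card + 2 ≤ n) : ∃ i j, i ∉ U ∧ j ∉ U ∧ i ≠ j := by
  have : 1 < Uᶜ.card := by rw [Finset.card_compl, Fintype.card_fin]; omega
  obtain ⟨i, hi, j, hj, hij⟩ := Finset.one_lt_card.1 this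
  exact ⟨i, j, by simpa using hi, by simpa using hj, hij⟩

theorem exists_outside {U : Finset (Fin n)} (h : U.card < n) : ∃ i, i ∉ U := by
  obtain ⟨i, hi⟩ := Finset.card_pos.1 (show 0 < Uᶜ.card by rw [Finset.card_compl, Fintype.card_fin]; omega)
  exact ⟨i, by simpa using hi⟩

theorem pairs_through (U : Finset (Fin n)) (r : Fin n) :
    {s : Finset (Fin n) | s.card = 2 ∧ r ∈ s ∧ Disjoint s U}.ncard ≤ n - U.card - 1 ∧
    (r ∉ U → {s : Finset (Fin n) | s.card = 2 ∧ r ∈ s ∧ Disjoint s U}.ncard = n - U.card - 1) := by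
  classical
  have key : r ∉ U → {s : Finset (Fin n) | s.card = 2 ∧ r ∈ s ∧ Disjoint s U}.ncard = n - U.card - 1 := by
    intro hr
    have : {s : Finset (Fin n) | s.card = 2 ∧ r ∈ s ∧ Disjoint s U} =
        (fun i => ({r, i} : Finset (Fin n))) '' ↑((insert r U)ᶜ : Finset (Fin n)) := by
      ext s
      constructor
      · rintro ⟨h2, hrs, hd⟩
        obtain ⟨a, b, hab, rfl⟩ := Finset.card_eq_two.1 h2
        simp only [Finset.disjoint_insert_left, Finset.disjoint_singleton_left] at hd
        rcases Finset.mem_insert.1 hrs with rfl | hb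
        · exact ⟨b, by simp [hab.symm, hd.2], rfl⟩
        · rw [Finset.mem_singleton] at hb; subst hb
          exact ⟨a, by simp [hab, hd.1], Finset.pair_comm r a⟩
      · rintro ⟨i, hi, rfl⟩
        simp at hi
        exact ⟨Finset.card_pair (Ne.symm hi.2), Finset.mem_insert_self r _, by simp [hr, hi.1]⟩
    rw [this, Set.InjOn.ncard_image, Set.ncard_coe_finset, Finset.card_compl, Fintype.card_fin,
      Finset.card_insert_of_notMem hr]
    · omega
    · intro i hi j hj e
      simp at hi hj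
      have : i ∈ ({r, j} : Finset (Fin n)) := by
        have e' : ({r, i} : Finset (Fin n)) = {r, j} := e
        exact e' ▸ Finset.mem_insert_of_mem (Finset.mem_singleton_self i)
      simpa [hi.2] using this
  refine ⟨?_, key⟩
  by_cases hr : r ∈ U
  · rw [show {s : Finset (Fin n) | s.card = 2 ∧ r ∈ s ∧ Disjoint s U} = ∅ from
      Set.eq_empty_iff_forall_notMem.2 fun s (hs : s ∈ {s : Finset (Fin n) | s.card = 2 ∧ r ∈ s ∧ Disjoint s U}) =>
        Finset.disjoint_left.1 hs.2.2 hs.2.1 hr, Set.ncard_empty]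
    exact Nat.zero_le _
  · exact (key hr).le

namespace Lab

theorem card (L : Lab D d n f) {x : G} (hx : x ∈ perp D d) : (f x).card = 2 := L.bij.mapsTo hx

theorem eq_iff (L : Lab D d n f) {x y : G} (hx : x ∈ perp D d) (hy : y ∈ perp D d) : f x = f y ↔ x = y :=
  ⟨L.bij.injOn hx hy, congrArg f⟩

theorem exists_pair (L : Lab D d n f) {i j : Fin n} (h : i ≠ j) : ∃ x ∈ perp D d, f x = {i, j} :=
  L.bij.surjOn (Finset.card_pair h)

theorem cls (L : Lab D d n f) : IsThreeTranspositionClass D := L.setting.rich.cls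

theorem mem_both (L : Lab D d n f) {x y : G} (hx : x ∈ perp D d) (hy : y ∈ perp D d) :
    x ∈ perp D y ↔ Disjoint (f x) (f y) := by
  refine ⟨fun h => (L.comm x hx y hy h.2.1).1 h.2.2.symm, fun h => ⟨hx.1, ?_, ?_⟩⟩
  · rintro rfl
    have := L.card hx
    rw [disjoint_self.1 h] at this
    simp at this
  · by_cases hxy : x = y
    · subst hxy; exact Commute.refl x
    · exact ((L.comm x hx y hy hxy).2 h).symm

/-- The third member of a line of pairs is the third pair. -/
theorem op (L : Lab D d n f) {x y : G} (hx : x ∈ perp D d) (hy : y ∈ perp D d) {a b e : Fin n}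
    (hfx : f x = {a, b}) (hfy : f y = {b, e}) (hab : a ≠ b) (hbe : b ≠ e) (hae : a ≠ e) :
    f (x * y * x) = {a, e} := by
  classical
  have hcls := L.cls
  have hz : x * y * x ∈ perp D d := (L.setting.perpPrim d L.mem).closed x hx y hy
  have hne : x ≠ y := fun h => hae (by
    have : a ∈ f y := h ▸ hfx ▸ Finset.mem_insert_self a _
    rw [hfy] at this; simpa [hab] using this)
  have hnc : ¬ Commute x y := fun hc => by
    have := (L.comm x hx y hy hne).1 hc
    rw [hfx, hfy] at this; simp at this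
  have hx2 := sq_eq_one hcls.1 hx.1
  have hy2 := sq_eq_one hcls.1 hy.1
  have hzx : ¬ Commute x (x * y * x) := fun hc => hnc (by
    have := ((Commute.refl x).mul_right hc).mul_right (Commute.refl x)
    rwa [invol_conj_conj hx2] at this)
  have hzy : ¬ Commute y (x * y * x) := fun hc => hnc (by
    rw [braid hcls.1 hx.1 hy.1 hnc] at hc
    have := ((Commute.refl y).mul_right hc).mul_right (Commute.refl y)
    rw [invol_conj_conj hy2] at this
    exact this.symm)
  have hcom : ∀ i j, i ∉ ({a, b, e} : Finset (Fin n)) → j ∉ ({a, b, e} : Finset (Fin n)) → i ≠ j →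
      ¬ (i ∈ f (x * y * x)) := by
    intro i j hi hj hij hiz
    obtain ⟨w, hw, hfw⟩ := L.exists_pair hij
    simp at hi hj
    have hxw : Disjoint (f x) (f w) := by simp [hfx, hfw, hi.1, hi.2.1, hj.1, hj.2.1, Ne.symm hi.1, Ne.symm hi.2.1, Ne.symm hj.1, Ne.symm hj.2.1]
    have hyw : Disjoint (f y) (f w) := by simp [hfy, hfw, hi.2.1, hi.2.2, hj.2.1, hj.2.2, Ne.symm hi.2.1, Ne.symm hi.2.2, Ne.symm hj.2.1, Ne.symm hj.2.2]
    have c1 : Commute w x := ((L.mem_both hw hx).2 hxw.symm).2.2.symm
    have c2 : Commute w y := ((L.mem_both hw hy).2 hyw.symm).2.2.symm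
    have c3 := (c1.mul_right c2).mul_right c1
    by_cases hwz : w = x * y * x
    · exact hzx (hwz ▸ c1.symm)
    · have := (L.comm w hw _ hz hwz).1 c3
      rw [hfw] at this
      exact Finset.disjoint_left.1 this (Finset.mem_insert_self i _) hiz
  have hsub : f (x * y * x) ⊆ {a, b, e} := by
    intro i hiz
    by_contra hi
    obtain ⟨j, j', hj, hj', hjj⟩ := exists_two_outside (U := {a, b, e}) (by
      have := Finset.card_le_three (a := a) (b := b) (c := e); have := L.five; omega)
    by_cases hij : i = j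
    · exact hcom i j' hi hj' (hij ▸ hjj) hiz
    · exact hcom i j hi hj hij hiz
  have hne1 : f (x * y * x) ≠ {a, b} := fun h => hzx (by
    rw [← hfx] at h; rw [(L.eq_iff hz hx).1 h])
  have hne2 : f (x * y * x) ≠ {b, e} := fun h => hzy (by
    rw [← hfy] at h; rw [(L.eq_iff hz hy).1 h])
  obtain ⟨p, q, hpq, hfz⟩ := Finset.card_eq_two.1 (L.card hz)
  rw [hfz] at hne1 hne2 hsub ⊢
  simp only [Finset.insert_subset_iff, Finset.mem_insert, Finset.mem_singleton, Finset.singleton_subset_iff] at hsub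
  obtain ⟨hp, hq⟩ := hsub
  rcases hp with rfl | rfl | rfl <;> rcases hq with rfl | rfl | rfl <;>
    first
      | exact absurd rfl hpq
      | exact absurd rfl hne1
      | exact absurd (Finset.pair_comm _ _) hne1
      | exact absurd rfl hne2
      | exact absurd (Finset.pair_comm _ _) hne2
      | rfl
      | exact Finset.pair_comm _ _

/-- Seen from one of its members, a trace misses the pairs through one point. -/
theorem exists_local (L : Lab D d n f) {c y : G} (hc : c ∈ D) (hdc : ¬ Commute d c) (hy : y ∈ common D d c) :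
    ∃ r, r ∉ f y ∧ ∀ e ∈ perp D d, Disjoint (f e) (f y) → (Commute e c ↔ r ∉ f e) := by
  classical
  have hR := L.setting.rich
  obtain ⟨g, hgy, hp, hq, hpq, hmem, htr⟩ := exists_view hR L.mem hc hdc hy
  set p := g * d * g⁻¹ with hpdef
  set q := g * c * g⁻¹ with hqdef
  have hne : p ≠ q := fun h => hpq (h ▸ Commute.refl p)
  obtain ⟨b, hbp, hbq⟩ := Finset.not_disjoint_iff.1 fun h => hpq ((L.comm p hp q hq hne).2 h)
  obtain ⟨a, hfp⟩ : ∃ a, a ≠ b ∧ f p = {a, b} := by
    obtain ⟨s, t, hst, hs⟩ := Finset.card_eq_two.1 (L.card hp)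
    rw [hs] at hbp
    rcases Finset.mem_insert.1 hbp with rfl | h
    · exact ⟨t, hst.symm, by rw [hs, Finset.pair_comm]⟩
    · rw [Finset.mem_singleton] at h; subst h; exact ⟨s, hst, hs⟩
  obtain ⟨e', hfq⟩ : ∃ e', e' ≠ b ∧ f q = {b, e'} := by
    obtain ⟨s, t, hst, hs⟩ := Finset.card_eq_two.1 (L.card hq)
    rw [hs] at hbq
    rcases Finset.mem_insert.1 hbq with rfl | h
    · exact ⟨t, hst.symm, hs⟩
    · rw [Finset.mem_singleton] at h; subst h; exact ⟨s, hst, by rw [hs, Finset.pair_comm]⟩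
  have hae : a ≠ e' := fun h => hne ((L.eq_iff hp hq).1 (by rw [hfp.2, hfq.2, h, Finset.pair_comm]))
  -- the neighbours of `y` commuting with `d` but not with `c`
  set C := {e | e ∈ perp D d ∧ e ∈ perp D y ∧ ¬ Commute e c} with hC
  have hCdis : ∀ e, e ∈ perp D d → (e ∈ perp D y ↔ Disjoint (f e) (f y)) := fun e he => L.mem_both he hy.1
  have himg : (fun e => f (g * e * g⁻¹)) '' C =
      {s : Finset (Fin n) | s.card = 2 ∧ e' ∈ s ∧ Disjoint s {a, b}} := by
    ext s
    constructor
    · rintro ⟨e, ⟨hed, hey, hec⟩, rfl⟩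
      have hge := (hmem e).2 hey
      have hdis : Disjoint (f (g * e * g⁻¹)) (f p) := (L.mem_both hge hp).1 (by
        rw [hpdef, ← conj_image_perp L.cls g d]; exact ⟨e, hed, rfl⟩)
      refine ⟨L.card hge, ?_, hfp.2 ▸ hdis⟩
      by_contra hes
      have hdq : Disjoint (f (g * e * g⁻¹)) (f q) := by
        rw [hfp.2] at hdis
        rw [hfq.2]
        simp only [Finset.disjoint_insert_right, Finset.disjoint_singleton_right] at hdis ⊢
        exact ⟨hdis.2, hes⟩
      have := (L.mem_both hge hq).2 hdq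
      exact hec (((conj_commute_iff g c e).1 this.2.2).symm)
    · rintro ⟨hs2, hes, hsd⟩
      obtain ⟨w, hw, rfl⟩ := L.bij.surjOn hs2
      set e := g⁻¹ * w * g with he
      have hge : g * e * g⁻¹ = w := by rw [he]; group
      have hey : e ∈ perp D y := (hmem e).1 (hge ▸ hw)
      have hwp : w ∈ perp D p := (L.mem_both hw hp).2 (hfp.2 ▸ hsd)
      have hed : e ∈ perp D d := by
        rw [hpdef, ← conj_image_perp L.cls g d] at hwp
        obtain ⟨t, ht, htw⟩ := hwp
        rwa [show t = e from mul_left_cancel (mul_right_cancel (htw.trans hge.symm))] at ht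
      refine ⟨e, ⟨hed, hey, fun hec => ?_⟩, by simp only [hge]⟩
      have h1 : Commute w q := hge ▸ (conj_commute_iff g e c).2 hec
      by_cases hwq : w = q
      · rw [hwq, hfq.2] at hsd
        simp at hsd
      · have := (L.comm w hw q hq hwq).1 h1
        rw [hfq.2] at this
        exact Finset.disjoint_left.1 this hes (by simp)
  have hinj : Set.InjOn (fun e => f (g * e * g⁻¹)) C := fun e he e₂ he₂ h =>
    mul_left_cancel (mul_right_cancel (L.bij.injOn ((hmem e).2 he.2.1) ((hmem e₂).2 he₂.2.1) h))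
  have hcard : C.ncard = n - 3 := by
    rw [← hinj.ncard_image, himg, (pairs_through {a, b} e').2 (by simp [Ne.symm hae, hfq.1]),
      Finset.card_pair hfp.1]
    omega
  have hfinj : Set.InjOn f C := L.bij.injOn.mono fun e he => he.1
  set F := (Set.toFinite (f '' C)).toFinset with hF
  have hFcard : F.card = n - 3 := by
    rw [hF, ← Set.ncard_eq_toFinset_card _, hfinj.ncard_image, hcard]
  obtain ⟨r, hr⟩ := exists_point F (Finset.card_pos.1 (by have := L.five; omega))
    (fun s hs => by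
      obtain ⟨e, he, rfl⟩ := (Set.Finite.mem_toFinset _).1 hs; exact L.card he.1)
    (fun s hs t ht => by
      obtain ⟨e, he, rfl⟩ := (Set.Finite.mem_toFinset _).1 hs
      obtain ⟨e₂, he₂, rfl⟩ := (Set.Finite.mem_toFinset _).1 ht
      intro hd
      have h1 : e ∈ perp D e₂ := (L.mem_both he.1 he₂.1).2 hd
      have hs1 : e' ∈ f (g * e * g⁻¹) := by
        have := Set.mem_image_of_mem (fun e => f (g * e * g⁻¹)) he
        rw [himg] at this; exact this.2.1
      have hs2 : e' ∈ f (g * e₂ * g⁻¹) := by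
        have := Set.mem_image_of_mem (fun e => f (g * e * g⁻¹)) he₂
        rw [himg] at this; exact this.2.1
      have h2 : g * e * g⁻¹ ∈ perp D (g * e₂ * g⁻¹) := by
        rw [← conj_image_perp L.cls g e₂]; exact ⟨e, h1, rfl⟩
      exact Finset.disjoint_left.1 ((L.mem_both ((hmem e).2 he.2.1) ((hmem e₂).2 he₂.2.1)).1 h2) hs1 hs2)
    (by have := L.five; have := L.six; omega)
  have hsubC : f '' C ⊆ {s : Finset (Fin n) | s.card = 2 ∧ r ∈ s ∧ Disjoint s (f y)} := by
    rintro _ ⟨e, he, rfl⟩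
    exact ⟨L.card he.1, hr _ ((Set.Finite.mem_toFinset _).2 ⟨e, he, rfl⟩), (hCdis e he.1).1 he.2.1⟩
  have hry : r ∉ f y := by
    obtain ⟨e, he⟩ := (Set.nonempty_of_ncard_ne_zero (s := C) (by have := L.five; omega))
    exact fun h => Finset.disjoint_left.1 (hsubC ⟨e, he, rfl⟩).2.2 (hsubC ⟨e, he, rfl⟩).2.1 h
  have heq := Set.eq_of_subset_of_ncard_le hsubC (by
    rw [(pairs_through _ r).2 hry, hfinj.ncard_image, hcard, L.card hy.1]; omega) (Set.toFinite _)
  refine ⟨r, hry, fun e he hd => ?_⟩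
  have heC : e ∈ C ↔ r ∈ f e := by
    refine ⟨fun h => (hsubC ⟨e, h, rfl⟩).2.1, fun h => ?_⟩
    have hfe : f e ∈ {s : Finset (Fin n) | s.card = 2 ∧ r ∈ s ∧ Disjoint s (f y)} := ⟨L.card he, h, hd⟩
    rw [← heq] at hfe
    obtain ⟨e₂, he₂, h₂⟩ := hfe
    rwa [(L.eq_iff he₂.1 he).1 h₂] at he₂
  rw [← heC]
  simp [hC, he, (hCdis e he).2 hd]

/-- Members with the same trace near a common member differ by the swap at most. -/
theorem eq_or_swap (L : Lab D d n f) {c c' y : G} (hc : c ∈ D) (hdc : ¬ Commute d c) (hc' : c' ∈ D)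
    (hdc' : ¬ Commute d c') (hy : y ∈ common D d c) (hy' : y ∈ common D d c')
    (h : ∀ e ∈ perp D d, e ∈ perp D y → (Commute e c ↔ Commute e c')) : c' = c ∨ c' = d * c * d := by
  classical
  have hR := L.setting.rich
  obtain ⟨g, hgy, hp, hq, hpq, hmem, -⟩ := exists_view hR L.mem hc hdc hy
  have hq' : g * c' * g⁻¹ ∈ perp D d := (hmem c').2 (mem_perp_comm hc' hy'.2)
  have hpq' : ¬ Commute (g * d * g⁻¹) (g * c' * g⁻¹) := fun e => hdc' ((conj_commute_iff g d c').1 e)
  set p := g * d * g⁻¹ with hpdef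
  set q := g * c * g⁻¹ with hqdef
  set q' := g * c' * g⁻¹ with hq'def
  have hne : p ≠ q := fun e => hpq (e ▸ Commute.refl p)
  have hne' : p ≠ q' := fun e => hpq' (e ▸ Commute.refl p)
  have hkey : ∀ w ∈ perp D d, Disjoint (f w) (f p) → (Disjoint (f w) (f q) ↔ Disjoint (f w) (f q')) := by
    intro w hw hwp
    set e := g⁻¹ * w * g with he
    have hge : g * e * g⁻¹ = w := by rw [he]; group
    have hey : e ∈ perp D y := (hmem e).1 (hge ▸ hw)
    have hwp' : w ∈ perp D p := (L.mem_both hw hp).2 hwp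
    have hed : e ∈ perp D d := by
      rw [hpdef, ← conj_image_perp L.cls g d] at hwp'
      obtain ⟨t, ht, htw⟩ := hwp'
      rwa [show t = e from mul_left_cancel (mul_right_cancel (htw.trans hge.symm))] at ht
    have hk := h e hed hey
    have hwne : ∀ {x}, x ∈ perp D d → ¬ Commute p x → w ≠ x := fun {x} _ hx hh =>
      hx (hh ▸ hwp'.2.2)
    rw [← L.comm w hw q hq (hwne hq hpq), ← L.comm w hw q' hq' (hwne hq' hpq'), ← hge, hqdef, hq'def,
      conj_commute_iff, conj_commute_iff]
    exact hk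
  obtain ⟨b, hbp, hbq⟩ := Finset.not_disjoint_iff.1 fun e => hpq ((L.comm p hp q hq hne).2 e)
  obtain ⟨b', hbp', hbq'⟩ := Finset.not_disjoint_iff.1 fun e => hpq' ((L.comm p hp q' hq' hne').2 e)
  -- outside `f p` the two pairs agree
  have hout : ∀ i, i ∉ f p → (i ∈ f q ↔ i ∈ f q') := by
    have hhalf : ∀ x ∈ perp D d, ∀ x' ∈ perp D d, b ∈ f p → (∃ t ∈ f p, t ∈ f x) → (∃ t ∈ f p, t ∈ f x') →
        (∀ w ∈ perp D d, Disjoint (f w) (f p) → (Disjoint (f w) (f x) ↔ Disjoint (f w) (f x'))) →
        ∀ i, i ∉ f p → i ∈ f x → i ∈ f x' := by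
      intro x hx x' hx' _ ⟨t, htp, htx⟩ ⟨t', htp', htx'⟩ hk i hi hix
      by_contra hix'
      obtain ⟨j, j', hj, hj', hjj⟩ := exists_two_outside (U := insert i (f p)) (by
        have := Finset.card_insert_le i (f p); have := L.card hp; have := L.five; omega)
      obtain ⟨j, hj, hjx'⟩ : ∃ j, j ∉ insert i (f p) ∧ j ∉ f x' := by
        by_contra hh
        push Not at hh
        have hsub : ({j, j', t'} : Finset (Fin n)) ⊆ f x' := by
          simp [Finset.insert_subset_iff, hh j hj, hh j' hj', htx']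
        have h3 := Finset.card_le_card hsub
        have hjt : j ≠ t' := fun e => hj (Finset.mem_insert_of_mem (e ▸ htp'))
        have hjt' : j' ≠ t' := fun e => hj' (Finset.mem_insert_of_mem (e ▸ htp'))
        rw [L.card hx', Finset.card_eq_three.2 ⟨j, j', t', hjj, hjt, hjt', rfl⟩] at h3
        omega
      simp only [Finset.mem_insert, not_or] at hj
      obtain ⟨w, hw, hfw⟩ := L.exists_pair (Ne.symm hj.1)
      have := (hk w hw (by simp [hfw, hi, hj.2])).2 (by simp [hfw, hix', hjx'])
      rw [hfw] at this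
      exact Finset.disjoint_left.1 this (Finset.mem_insert_self i _) hix
    exact fun i hi => ⟨hhalf q hq q' hq' hbp ⟨b, hbp, hbq⟩ ⟨b', hbp', hbq'⟩ hkey i hi,
      hhalf q' hq' q hq hbp ⟨b', hbp', hbq'⟩ ⟨b, hbp, hbq⟩ (fun w hw hd => (hkey w hw hd).symm) i hi⟩
  by_cases hqq : q' = q
  · exact Or.inl (mul_left_cancel (mul_right_cancel hqq))
  right
  obtain ⟨a, hab, hfp⟩ : ∃ a, a ≠ b ∧ f p = {a, b} := by
    obtain ⟨s, t, hst, hs⟩ := Finset.card_eq_two.1 (L.card hp)
    rw [hs] at hbp
    rcases Finset.mem_insert.1 hbp with rfl | h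
    · exact ⟨t, hst.symm, by rw [hs, Finset.pair_comm]⟩
    · rw [Finset.mem_singleton] at h; subst h; exact ⟨s, hst, hs⟩
  obtain ⟨e', he'b, hfq⟩ : ∃ e', e' ≠ b ∧ f q = {b, e'} := by
    obtain ⟨s, t, hst, hs⟩ := Finset.card_eq_two.1 (L.card hq)
    rw [hs] at hbq
    rcases Finset.mem_insert.1 hbq with rfl | h
    · exact ⟨t, hst.symm, hs⟩
    · rw [Finset.mem_singleton] at h; subst h; exact ⟨s, hst, by rw [hs, Finset.pair_comm]⟩
  have hae : a ≠ e' := fun e => hne ((L.eq_iff hp hq).1 (by rw [hfp, hfq, e, Finset.pair_comm]))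
  have he'p : e' ∉ f p := by simp [hfp, he'b, Ne.symm hae]
  have he'q' : e' ∈ f q' := (hout e' he'p).1 (by simp [hfq])
  have hb'e : b' ≠ e' := fun e => he'p (e ▸ hbp')
  have hfq' : f q' = {b', e'} := (Finset.eq_of_subset_of_card_le
    (by simp [Finset.insert_subset_iff, hbq', he'q']) (by rw [L.card hq', Finset.card_pair hb'e])).symm
  have hb'a : b' = a := by
    rw [hfp] at hbp'
    rcases Finset.mem_insert.1 hbp' with h' | h'
    · exact h'
    · rw [Finset.mem_singleton] at h'; subst h'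
      exact absurd ((L.eq_iff hq' hq).1 (by rw [hfq', hfq])) hqq
  subst hb'a
  have : q' = p * q * p := (L.eq_iff hq' ((L.setting.perpPrim d L.mem).closed p hp q hq)).1
    (by rw [hfq', L.op hp hq hfp hfq hab (Ne.symm he'b) hae])
  have e2 : p * q * p = g * (d * c * d) * g⁻¹ := by rw [hpdef, hqdef]; group
  exact mul_left_cancel (mul_right_cancel (this.trans e2))

/-- Every member outside the perp set avoids one point. -/
theorem exists_trace (L : Lab D d n f) {c : G} (hc : c ∈ D) (hdc : ¬ Commute d c) :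
    ∃ r, ∀ e ∈ perp D d, Commute e c ↔ r ∉ f e := by
  classical
  have hR := L.setting.rich
  have hcls := L.cls
  have hdc' : ∀ {e}, e ∈ perp D d → Commute e c → e ∈ common D d c := fun {e} he h =>
    ⟨he, he.1, fun e' => hdc (e' ▸ he.2.2), h.symm⟩
  obtain ⟨y, hy⟩ := exists_common hR L.mem hc hdc
  obtain ⟨r, hry, hr⟩ := L.exists_local hc hdc hy
  obtain ⟨a, b, hab, hfy⟩ := Finset.card_eq_two.1 (L.card hy.1)
  obtain ⟨har, hbr⟩ : r ≠ a ∧ r ≠ b := by simpa [hfy] using hry
  have hyc : Commute y c := hy.2.2.2.symm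
  have h5 := L.five
  -- the point is the same at every member of the trace commuting with `y`
  have hsame : ∀ z ∈ perp D d, Disjoint (f z) (f y) → r ∉ f z → ∀ e ∈ perp D d, Disjoint (f e) (f z) →
      (Commute e c ↔ r ∉ f e) := by
    intro z hz hzy hrz e he hez
    have hzc : Commute z c := (hr z hz hzy).2 hrz
    obtain ⟨s, hsz, hs⟩ := L.exists_local hc hdc (hdc' hz hzc)
    suffices s = r from this ▸ hs e he hez
    have hsy : s ∉ f y := (hs y hy.1 hzy.symm).1 hyc
    by_contra hsr
    rcases Nat.lt_or_ge n 7 with hn | hn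
    · -- five points: the fifth
      have : ({s, r} ∪ f z ∪ f y : Finset (Fin n)).card ≤ n := by
        simpa using Finset.card_le_univ ({s, r} ∪ f z ∪ f y : Finset (Fin n))
      rw [Finset.card_union_of_disjoint, Finset.card_union_of_disjoint, L.card hz, L.card hy.1,
        Finset.card_pair hsr] at this
      · have := L.six; omega
      · simp [hsz, hrz]
      · simp [hsy, hry, hzy, Finset.disjoint_union_left]
    · obtain ⟨i, hi⟩ := exists_outside (U := {s, r} ∪ f z ∪ f y) (by
        have := Finset.card_union_le ({s, r} ∪ f z) (f y)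
        have := Finset.card_union_le ({s, r} : Finset (Fin n)) (f z)
        have := Finset.card_le_two (a := s) (b := r)
        have := L.card hz; have := L.card hy.1
        omega)
      simp only [Finset.mem_union, Finset.mem_insert, Finset.mem_singleton, not_or] at hi
      obtain ⟨w, hw, hfw⟩ := L.exists_pair (i := s) (j := i) (Ne.symm hi.1.1.1)
      have h1 := hr w hw (by simp [hfw, hsy, hi.2])
      have h2 := hs w hw (by simp [hfw, hsz, hi.1.2])
      simp [hfw, Ne.symm hsr, Ne.symm hi.1.1.2] at h1 h2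
      exact h2 h1
  -- no member of the trace has the point
  have hno : ∀ e ∈ perp D d, r ∈ f e → ¬ Commute e c := by
    intro e he hre hec
    by_cases hd : Disjoint (f e) (f y)
    · exact (hr e he hd).1 hec hre
    obtain ⟨a', hae', ha'y⟩ := Finset.not_disjoint_iff.1 hd
    have har' : a' ≠ r := fun h => hry (h ▸ ha'y)
    have hfe : f e = {a', r} := (Finset.eq_of_subset_of_card_le
      (by simp [Finset.insert_subset_iff, hae', hre]) (by rw [L.card he, Finset.card_pair har'])).symm
    obtain ⟨i, j, hi, hj, hij⟩ := exists_two_outside (U := insert r (f y)) (by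
      have := Finset.card_insert_le r (f y); have := L.card hy.1; omega)
    simp only [Finset.mem_insert, not_or] at hi hj
    obtain ⟨z, hz, hfz⟩ := L.exists_pair hij
    have hzy : Disjoint (f z) (f y) := by simp [hfz, hi.2, hj.2]
    have hrz : r ∉ f z := by simp [hfz, Ne.symm hi.1, Ne.symm hj.1]
    have : Disjoint (f e) (f z) := by
      rw [hfe, hfz]
      have h1 : i ≠ a' := fun h => hi.2 (h ▸ ha'y)
      have h2 : j ≠ a' := fun h => hj.2 (h ▸ ha'y)
      simp [hi.1, hj.1, h1, h2, h1.symm, h2.symm, Ne.symm hi.1, Ne.symm hj.1]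
    exact (hsame z hz hzy hrz e he this).1 hec hre
  refine ⟨r, fun e he => ⟨fun h hre => hno e he hre h, fun hre => ?_⟩⟩
  by_cases hd : Disjoint (f e) (f y)
  · exact (hr e he hd).2 hre
  by_cases hey : e = y
  · exact hey ▸ hyc
  -- `e` meets `y` in one point
  obtain ⟨a', hae', ha'y⟩ := Finset.not_disjoint_iff.1 hd
  obtain ⟨i, hfe⟩ : ∃ i, i ∉ f y ∧ f e = {a', i} := by
    obtain ⟨i, hi, hi'⟩ : ∃ i ∈ f e, i ∉ f y := by
      by_contra hh
      push Not at hh
      exact hey ((L.eq_iff he hy.1).1 (Finset.eq_of_subset_of_card_le hh (by rw [L.card he, L.card hy.1])))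
    exact ⟨i, hi', (Finset.eq_of_subset_of_card_le (by simp [Finset.insert_subset_iff, hae', hi])
      (by rw [L.card he, Finset.card_pair fun h => by subst h; exact hi' ha'y])).symm⟩
  have hir : r ≠ i := fun h => hre (by rw [hfe.2, h]; simp)
  rcases Nat.lt_or_ge n 7 with hn | hn
  swap
  · obtain ⟨j, k, hj, hk, hjk⟩ := exists_two_outside (U := {r, i} ∪ f y) (by
      have := Finset.card_union_le ({r, i} : Finset (Fin n)) (f y)
      have := Finset.card_le_two (a := r) (b := i); have := L.card hy.1; omega)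
    simp only [Finset.mem_union, Finset.mem_insert, Finset.mem_singleton, not_or] at hj hk
    obtain ⟨z, hz, hfz⟩ := L.exists_pair hjk
    exact (hsame z hz (by simp [hfz, hj.2, hk.2]) (by simp [hfz, Ne.symm hj.1.1, Ne.symm hk.1.1]) e he (by
      have h1 : j ≠ a' := fun h => hj.2 (h ▸ ha'y)
      have h2 : k ≠ a' := fun h => hk.2 (h ▸ ha'y)
      simp [hfe.2, hfz, hj.1.2, hk.1.2, Ne.symm hj.1.2, Ne.symm hk.1.2, h1, h2, h1.symm, h2.symm])).2 hre
  -- five points
  have hn5 : n = 5 := by have := L.six; omega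
  obtain ⟨j, hj⟩ : ∃ j, j ∉ ({r, i} ∪ f y : Finset (Fin n)) := exists_outside (by
    have h2 := Finset.card_union_le ({r, i} : Finset (Fin n)) (f y)
    have h3 := Finset.card_le_two (a := r) (b := i)
    have h4 := L.card hy.1
    omega)
  simp only [Finset.mem_union, Finset.mem_insert, Finset.mem_singleton, not_or] at hj
  obtain ⟨z, hz, hfz⟩ := L.exists_pair (Ne.symm hj.1.2)
  have hzy : Disjoint (f z) (f y) := by simp [hfz, hfe.1, hj.2]
  have hrz : r ∉ f z := by simp [hfz, hir, Ne.symm hj.1.1]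
  have hzc : Commute z c := (hr z hz hzy).2 hrz
  -- the two pairs exchanging `y` and `z`
  obtain ⟨b', hb'y, hb'a⟩ : ∃ b' ∈ f y, b' ≠ a' :=
    Finset.exists_mem_ne (by rw [L.card hy.1]; norm_num) a'
  have hfy' : f y = {a', b'} := (Finset.eq_of_subset_of_card_le
    (by simp [Finset.insert_subset_iff, ha'y, hb'y]) (by rw [L.card hy.1, Finset.card_pair hb'a.symm])).symm
  have hib : b' ≠ i := fun h => hfe.1 (h ▸ hb'y)
  have hia : a' ≠ i := fun h => hfe.1 (h ▸ ha'y)
  have hja : a' ≠ j := fun h => hj.2 (h ▸ ha'y)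
  have hjb : b' ≠ j := fun h => hj.2 (h ▸ hb'y)
  obtain ⟨x, hx, hfx⟩ := L.exists_pair hjb
  have hex : Commute e x := by
    by_cases h' : e = x
    · rw [h']
    · refine (L.comm e he x hx h').2 ?_
      rw [hfe.2, hfx]
      simp [hb'a, hb'a.symm, hib, hib.symm, hja, hja.symm, hj.1.2, Ne.symm hj.1.2]
  have hne : e ≠ x := fun h => by
    have : a' ∈ f x := h ▸ hfe.2 ▸ Finset.mem_insert_self a' _
    simp [hfx, hb'a.symm, hja] at this
  have hix : f (x * y * x) = {j, a'} :=
    L.op hx hy.1 (by rw [hfx, Finset.pair_comm]) (by rw [hfy', Finset.pair_comm]) hjb.symm hb'a hja.symm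
  have hxyx := (L.setting.perpPrim d L.mem).closed x hx y hy.1
  have hwy : e * x * y * (e * x)⁻¹ = z := by
    have h1 : f (e * (x * y * x) * e) = {i, j} :=
      L.op he hxyx (by rw [hfe.2, Finset.pair_comm]) (by rw [hix, Finset.pair_comm]) hia.symm hja
        (Ne.symm hj.1.2)
    have h2 := (L.eq_iff ((L.setting.perpPrim d L.mem).closed e he _ hxyx) hz).1 (h1.trans hfz.symm)
    rw [mul_inv_rev, inv_eq hcls.1 hx.1, inv_eq hcls.1 he.1]
    calc e * x * y * (x * e) = e * (x * y * x) * e := by group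
      _ = z := h2
  have hwz : e * x * z * (e * x)⁻¹ = y := by
    have hinv : (e * x)⁻¹ = e * x := by rw [mul_inv_rev, inv_eq hcls.1 hx.1, inv_eq hcls.1 he.1, hex.eq]
    have hsq : e * x * (e * x) = 1 := by
      calc e * x * (e * x) = (e * x)⁻¹ * (e * x) := by rw [hinv]
        _ = 1 := inv_mul_cancel _
    rw [← hwy, hinv]
    calc e * x * (e * x * y * (e * x)) * (e * x) = e * x * (e * x) * y * (e * x * (e * x)) := by group
      _ = y := by rw [hsq, one_mul, mul_one]
  set w := e * x with hwdef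
  have hfix : w * d * w⁻¹ = d := by
    rw [((he.2.2.mul_right hx.2.2).symm).eq, mul_inv_cancel_right]
  have hwc : w * c * w⁻¹ ∈ D := ThreeTr.conj_mem hcls w hc
  have hdwc : ¬ Commute d (w * c * w⁻¹) := fun h => hdc ((conj_commute_iff w d c).1 (hfix.symm ▸ h))
  have hywc : Commute y (w * c * w⁻¹) := hwz ▸ (conj_commute_iff w z c).2 hzc
  have hzwc : Commute z (w * c * w⁻¹) := hwy ▸ (conj_commute_iff w y c).2 hyc
  have heq : w * c * w⁻¹ = c ∨ w * c * w⁻¹ = d * c * d := by
    refine L.eq_or_swap hc hdc hwc hdwc hy ⟨hy.1, hy.1.1, fun h => hdwc (h ▸ hy.1.2.2), hywc.symm⟩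
      fun u hu huy => ?_
    have hud := (L.mem_both hu hy.1).1 huy
    by_cases hru : r ∈ f u
    · refine iff_of_false (fun h => (hr u hu hud).1 h hru) fun h => ?_
      have hwu : w * u * w⁻¹ ∈ perp D d := by rw [← hfix, ← conj_image_perp hcls w d]; exact ⟨u, hu, rfl⟩
      have h' : Commute (w * u * w⁻¹) c := by
        have := (conj_commute_iff w u (w * c * w⁻¹)).2 h
        have hinv : w⁻¹ = w := by rw [hwdef, mul_inv_rev, inv_eq hcls.1 hx.1, inv_eq hcls.1 he.1, hex.eq]
        have e2 : w * (w * c * w⁻¹) * w⁻¹ = c := by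
          rw [hinv]
          have hsq : w * w = 1 := by nth_rw 1 [← hinv]; rw [inv_mul_cancel]
          calc w * (w * c * w) * w = w * w * c * (w * w) := by group
            _ = c := by rw [hsq, one_mul, mul_one]
        rwa [e2] at this
      have huz : ¬ Commute u z := fun hh => by
        by_cases huz' : u = z
        · exact hrz (huz' ▸ hru)
        have := (L.comm u hu z hz huz').1 hh
        have hsub : f u ∪ f z ∪ f y ⊆ (Finset.univ : Finset (Fin n)) := Finset.subset_univ _
        have hc' := Finset.card_le_card hsub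
        rw [Finset.card_union_of_disjoint, Finset.card_union_of_disjoint this, L.card hu, L.card hz, L.card hy.1]
          at hc'
        · simp at hc'; omega
        · exact Finset.disjoint_union_left.2 ⟨hud, hzy⟩
      have hwuy : ¬ Commute (w * u * w⁻¹) y := fun hh => huz ((conj_commute_iff w u z).1 (hwz.symm ▸ hh))
      have hwuz : Commute (w * u * w⁻¹) z :=
        hwy ▸ (conj_commute_iff w u y).2 huy.2.2.symm
      have hr' := hsame z hz hzy hrz (w * u * w⁻¹) hwu ((L.mem_both hwu hz).1 ⟨hwu.1, fun e2 => hwuy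
        (e2 ▸ ((L.mem_both hz hy.1).2 hzy).2.2.symm), hwuz.symm⟩)
      have hwd : Disjoint (f (w * u * w⁻¹)) (f z) := (L.mem_both hwu hz).1 ⟨hwu.1, fun e2 => hwuy
        (e2 ▸ ((L.mem_both hz hy.1).2 hzy).2.2.symm), hwuz.symm⟩
      have hrw := hr'.1 h'
      -- avoiding `z` and `r` is being `y`
      have hsub : f (w * u * w⁻¹) ⊆ f y := by
        intro t ht
        by_contra hty
        have h1 : ({r, t} ∪ f z ∪ f y : Finset (Fin n)).card ≤ n := by
          simpa using Finset.card_le_univ ({r, t} ∪ f z ∪ f y : Finset (Fin n))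
        rw [Finset.card_union_of_disjoint, Finset.card_union_of_disjoint, L.card hz, L.card hy.1,
          Finset.card_pair (fun e2 => hrw (by subst e2; exact ht))] at h1
        · omega
        · simp [hrz, Finset.disjoint_left.1 hwd ht]
        · simp [hry, hty, hzy, Finset.disjoint_union_left]
      have := (L.eq_iff hwu hy.1).1 (Finset.eq_of_subset_of_card_le hsub (by rw [L.card hwu, L.card hy.1]))
      exact hwuy (this ▸ Commute.refl y)
    · have huz : u = z := by
        refine (L.eq_iff hu hz).1 (Finset.eq_of_subset_of_card_le (fun t ht => ?_) (by rw [L.card hu, L.card hz]))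
        by_contra htz
        have h1 : ({r, t} ∪ f z ∪ f y : Finset (Fin n)).card ≤ n := by
          simpa using Finset.card_le_univ ({r, t} ∪ f z ∪ f y : Finset (Fin n))
        rw [Finset.card_union_of_disjoint, Finset.card_union_of_disjoint, L.card hz, L.card hy.1,
          Finset.card_pair (fun e2 => hru (by subst e2; exact ht))] at h1
        · omega
        · simp [hrz, htz]
        · simp [hry, Finset.disjoint_left.1 hud ht, hzy, Finset.disjoint_union_left]
      exact iff_of_true (huz ▸ hzc) (huz ▸ hzwc)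
  rcases heq with h | h
  · have hc2 : Commute c (e * x) := (mul_inv_eq_iff_eq_mul.1 h).symm
    exact ((commute_pair_iff hcls.1 he.1 hx.1 hc hne hex).1 hc2).1.symm
  · refine absurd ?_ hdc
    have hd2 := sq_eq_one hcls.1 L.mem
    have hdw : Commute d w := he.2.2.mul_right hx.2.2
    have hc3 : Commute c (d * e * x) := by
      show c * (d * e * x) = d * e * x * c
      have h' : w * c = d * c * d * w := mul_inv_eq_iff_eq_mul.1 h
      calc c * (d * e * x) = d * (d * c * d * w) := by
            rw [hwdef]; simp only [← mul_assoc, hd2, one_mul]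
        _ = d * e * x * c := by rw [← h', hwdef]; simp only [← mul_assoc]
    exact ((commute_triple_iff hcls.1 L.mem he.1 hx.1 hc he.2.1.symm hx.2.1.symm hne he.2.2 hx.2.2 hex).1
      hc3).1.symm

theorem swap_mem (L : Lab D d n f) {c : G} (hc : c ∈ D) (hdc : ¬ Commute d c) :
    d * c * d ∈ D ∧ ¬ Commute d (d * c * d) ∧ ¬ Commute c (d * c * d) ∧ d * (d * c * d) * d = c := by
  have hcls := L.cls
  have hd2 := sq_eq_one hcls.1 L.mem
  refine ⟨?_, fun h => hdc ?_, fun h => hdc ?_, invol_conj_conj hd2 c⟩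
  · have := ThreeTr.conj_mem hcls d hc
    rwa [inv_eq hcls.1 L.mem] at this
  · have := ((Commute.refl d).mul_right h).mul_right (Commute.refl d)
    rwa [invol_conj_conj hd2] at this
  · rw [braid hcls.1 L.mem hc hdc] at h
    have := ((Commute.refl c).mul_right h).mul_right (Commute.refl c)
    rw [invol_conj_conj (sq_eq_one hcls.1 hc)] at this
    exact this.symm

theorem swap_commute (L : Lab D d n f) {c e : G} (he : Commute d e) :
    Commute e (d * c * d) ↔ Commute e c := by
  refine ⟨fun h => ?_, fun h => (he.symm.mul_right h).mul_right he.symm⟩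
  have := (he.symm.mul_right h).mul_right he.symm
  rwa [invol_conj_conj (sq_eq_one L.cls.1 L.mem)] at this

/-- The members commuting with a neighbour `y` of `d` fall in two sides, exchanged by `d`. -/
theorem exists_sides (L : Lab D d n f) {y : G} (hy : y ∈ perp D d) :
    ∃ s : G → Bool, (∀ c ∈ D, ¬ Commute d c → Commute y c → s (d * c * d) = !s c) ∧
      ∀ c ∈ D, ¬ Commute d c → Commute y c → ∀ c' ∈ D, ¬ Commute d c' → Commute y c' → c' ≠ c →
        c' ≠ d * c * d → (Commute c c' ↔ s c ≠ s c') := by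
  classical
  have hcls := L.cls
  have hiff : ∀ g e x : G, g * e * g⁻¹ ∈ perp D (g * x * g⁻¹) ↔ e ∈ perp D x := fun g e x => by
    rw [← conj_image_perp hcls g x]
    exact ⟨fun ⟨w, hw, h⟩ => (mul_left_cancel (mul_right_cancel h) : w = e) ▸ hw, fun h => ⟨e, h, rfl⟩⟩
  obtain ⟨g, hg⟩ := ThreeTr.exists_conj hcls hy.1 L.mem
  have hp : g * d * g⁻¹ ∈ perp D d := hg ▸ (hiff g d y).2 (mem_perp_comm L.mem hy)
  have hq : ∀ c ∈ D, ¬ Commute d c → Commute y c → g * c * g⁻¹ ∈ perp D d := fun c hc hdc hyc =>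
    hg ▸ (hiff g c y).2 ⟨hc, fun e => hdc (e ▸ hy.2.2), hyc⟩
  obtain ⟨a, b, hab, hfp⟩ := Finset.card_eq_two.1 (L.card hp)
  -- the shape of each image
  have hshape : ∀ c ∈ D, ¬ Commute d c → Commute y c →
      ∃ t, t ≠ a ∧ t ≠ b ∧ f (g * c * g⁻¹) = {if a ∈ f (g * c * g⁻¹) then a else b, t} := by
    intro c hc hdc hyc
    set q := g * c * g⁻¹ with hqdef
    have hqd : q ∈ perp D d := hq c hc hdc hyc
    have hpq : ¬ Commute (g * d * g⁻¹) q := fun h => hdc ((conj_commute_iff g d c).1 h)
    have hne : g * d * g⁻¹ ≠ q := fun h => hpq (h ▸ Commute.refl _)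
    obtain ⟨m, hmp, hmq⟩ := Finset.not_disjoint_iff.1 fun h => hpq ((L.comm _ hp q hqd hne).2 h)
    rw [hfp, Finset.mem_insert, Finset.mem_singleton] at hmp
    obtain ⟨t, htq, htm⟩ : ∃ t ∈ f q, t ≠ m := Finset.exists_mem_ne (by rw [L.card hqd]; norm_num) m
    have hfq : f q = {m, t} := (Finset.eq_of_subset_of_card_le
      (by simp [Finset.insert_subset_iff, hmq, htq]) (by rw [L.card hqd, Finset.card_pair htm.symm])).symm
    have hboth : ¬ (a ∈ f q ∧ b ∈ f q) := fun ⟨h1, h2⟩ => hne ((L.eq_iff hp hqd).1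
      (hfp.trans (Finset.eq_of_subset_of_card_le (by simp [Finset.insert_subset_iff, h1, h2])
        (by rw [L.card hqd, Finset.card_pair hab]))))
    rcases hmp with rfl | rfl
    · exact ⟨t, htm, fun h => hboth ⟨hmq, h ▸ htq⟩, by rw [if_pos hmq, hfq]⟩
    · exact ⟨t, fun h => hboth ⟨h ▸ htq, hmq⟩, htm, by rw [if_neg fun h => hboth ⟨h, hmq⟩, hfq]⟩
  have hswap : ∀ c : G, g * (d * c * d) * g⁻¹ = g * d * g⁻¹ * (g * c * g⁻¹) * (g * d * g⁻¹) := fun c => by group
  -- exchanging the side
  have hop : ∀ c ∈ D, ¬ Commute d c → Commute y c → ∀ t, t ≠ a → t ≠ b → ∀ m, m = a ∨ m = b →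
      f (g * c * g⁻¹) = {m, t} → f (g * (d * c * d) * g⁻¹) = {if m = a then b else a, t} := by
    intro c hc hdc hyc t hta htb m hm hfq
    rw [hswap]
    rcases hm with rfl | rfl
    · rw [if_pos rfl]; exact L.op hp (hq c hc hdc hyc) (by rw [hfp, Finset.pair_comm]) hfq hab.symm hta.symm htb.symm
    · rw [if_neg hab.symm]; exact L.op hp (hq c hc hdc hyc) hfp hfq hab htb.symm hta.symm
  refine ⟨fun c => decide (a ∈ f (g * c * g⁻¹)), fun c hc hdc hyc => ?_,
    fun c hc hdc hyc c' hc' hdc' hyc' hne hne' => ?_⟩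
  · obtain ⟨t, hta, htb, hfq⟩ := hshape c hc hdc hyc
    show decide (a ∈ f (g * (d * c * d) * g⁻¹)) = !decide (a ∈ f (g * c * g⁻¹))
    rw [hop c hc hdc hyc t hta htb _ (by split_ifs <;> simp) hfq]
    by_cases h : a ∈ f (g * c * g⁻¹) <;> simp [h, hab, hta.symm, hab.symm]
  · obtain ⟨t, hta, htb, hfq⟩ := hshape c hc hdc hyc
    obtain ⟨t', hta', htb', hfq'⟩ := hshape c' hc' hdc' hyc'
    have hqq : g * c * g⁻¹ ≠ g * c' * g⁻¹ := fun h => hne (mul_left_cancel (mul_right_cancel h)).symm
    have htt : t ≠ t' := by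
      rintro rfl
      by_cases hs : (a ∈ f (g * c * g⁻¹)) ↔ (a ∈ f (g * c' * g⁻¹))
      · exact hqq ((L.eq_iff (hq c hc hdc hyc) (hq c' hc' hdc' hyc')).1 (by
          rw [hfq, hfq']; simp only [hs]))
      · obtain ⟨h1, h2, -, -⟩ := L.swap_mem hc hdc
        have h3 : Commute y (d * c * d) := (L.swap_commute hy.2.2).2 hyc
        refine hne' (mul_left_cancel (mul_right_cancel ((L.eq_iff (hq c' hc' hdc' hyc') (hq _ h1 h2 h3)).1 ?_)))
        rw [hop c hc hdc hyc t hta htb _ (by split_ifs <;> simp) hfq, hfq']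
        by_cases h : a ∈ f (g * c * g⁻¹)
        · have h' : a ∉ f (g * c' * g⁻¹) := fun h' => hs ⟨fun _ => h', fun _ => h⟩
          simp [h, h']
        · have h' : a ∈ f (g * c' * g⁻¹) := by_contra fun h' => hs ⟨fun e => absurd e h, fun e => absurd e h'⟩
          simp [h, h', hab.symm]
    rw [← conj_commute_iff g c c', L.comm _ (hq c hc hdc hyc) _ (hq c' hc' hdc' hyc') hqq]
    conv_lhs => rw [hfq, hfq']
    by_cases h : a ∈ f (g * c * g⁻¹) <;> by_cases h' : a ∈ f (g * c' * g⁻¹) <;>
      simp [h, h', hab, hab.symm, hta, hta.symm, htb, htb.symm, hta', hta'.symm, htb', htb'.symm, htt, htt.symm]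

/-- A neighbour of `d` avoiding three points. -/
theorem exists_avoid (L : Lab D d n f) (i j k : Fin n) :
    ∃ y ∈ perp D d, i ∉ f y ∧ j ∉ f y ∧ k ∉ f y := by
  obtain ⟨a, b, ha, hb, hab⟩ := exists_two_outside (U := {i, j, k}) (by
    have := Finset.card_le_three (a := i) (b := j) (c := k); have := L.five; omega)
  simp only [Finset.mem_insert, Finset.mem_singleton, not_or] at ha hb
  obtain ⟨y, hy, hfy⟩ := L.exists_pair hab
  exact ⟨y, hy, by simp [hfy, Ne.symm ha.1, Ne.symm hb.1], by simp [hfy, Ne.symm ha.2.1, Ne.symm hb.2.1],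
    by simp [hfy, Ne.symm ha.2.2, Ne.symm hb.2.2]⟩

theorem symLike (L : Lab D d n f) : SymLike D (n + 2) := by
  classical
  have hcls := L.cls
  have h5 := L.five
  have htr : ∀ c, ∃ r, c ∈ D → ¬ Commute d c → ∀ e ∈ perp D d, Commute e c ↔ r ∉ f e := fun c => by
    by_cases h : c ∈ D ∧ ¬ Commute d c
    · obtain ⟨r, hr⟩ := L.exists_trace h.1 h.2
      exact ⟨r, fun _ _ => hr⟩
    · exact ⟨⟨0, by omega⟩, fun h1 h2 => absurd ⟨h1, h2⟩ h⟩
  choose r hr using htr
  have hswap_r : ∀ c ∈ D, ¬ Commute d c → r (d * c * d) = r c := by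
    intro c hc hdc
    obtain ⟨h1, h2, -, -⟩ := L.swap_mem hc hdc
    by_contra hne
    obtain ⟨t, ht⟩ := exists_outside (U := ({r (d * c * d), r c} : Finset (Fin n))) (by
      have := Finset.card_le_two (a := r (d * c * d)) (b := r c); omega)
    simp only [Finset.mem_insert, Finset.mem_singleton, not_or] at ht
    obtain ⟨e, he, hfe⟩ := L.exists_pair (Ne.symm ht.1)
    have hcm : Commute e c := (hr c hc hdc e he).2 (by simp [hfe, Ne.symm hne, Ne.symm ht.2])
    exact (hr _ h1 h2 e he).1 ((L.swap_commute he.2.2).2 hcm) (by simp [hfe])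
  have hfibre : ∀ c ∈ D, ¬ Commute d c → ∀ c' ∈ D, ¬ Commute d c' → r c = r c' → c' = c ∨ c' = d * c * d := by
    intro c hc hdc c' hc' hdc' hrr
    obtain ⟨y, hy, hry, -, -⟩ := L.exists_avoid (r c) (r c) (r c)
    have hyc := (hr c hc hdc y hy).2 hry
    have hyc' := (hr c' hc' hdc' y hy).2 (hrr ▸ hry)
    refine L.eq_or_swap hc hdc hc' hdc' ⟨hy, hy.1, fun e => hdc (e ▸ hy.2.2), hyc.symm⟩
      ⟨hy, hy.1, fun e => hdc' (e ▸ hy.2.2), hyc'.symm⟩ fun e he _ => ?_
    rw [hr c hc hdc e he, hr c' hc' hdc' e he, hrr]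
  have hother : ∀ c ∈ D, ¬ Commute d c → ∀ c' ∈ D, ¬ Commute d c' → r c ≠ r c' →
      (Commute (d * c * d) c' ↔ ¬ Commute c c') := by
    intro c hc hdc c' hc' hdc' hne
    obtain ⟨h1, h2, -, h4⟩ := L.swap_mem hc hdc
    obtain ⟨y, hy, hry, hry', -⟩ := L.exists_avoid (r c) (r c') (r c')
    obtain ⟨s, hs, hs'⟩ := L.exists_sides hy
    have hyc := (hr c hc hdc y hy).2 hry
    have hyc' := (hr c' hc' hdc' y hy).2 hry'
    have n1 : c' ≠ c := fun e => hne (by rw [e])
    have n2 : c' ≠ d * c * d := fun e => hne (by rw [e, hswap_r c hc hdc])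
    rw [hs' _ h1 h2 ((L.swap_commute hy.2.2).2 hyc) c' hc' hdc' hyc' n2 (by rwa [h4]),
      hs' c hc hdc hyc c' hc' hdc' hyc' n1 n2, hs c hc hdc hyc]
    cases s c <;> cases s c' <;> simp
  obtain ⟨c₀, hc₀, hdc₀⟩ : ∃ c₀ ∈ D, ¬ Commute d c₀ := by
    obtain ⟨x, hx⟩ := L.setting.rich.exists_perp L.mem
    obtain ⟨z, hz, -, hdz⟩ := L.setting.rich.exists_sep L.mem hx
    exact ⟨z, hz, hdz⟩
  -- the two sides
  let side : G → Prop := fun c => if r c = r c₀ then c = c₀ else ¬ Commute c c₀
  have hside_swap : ∀ c ∈ D, ¬ Commute d c → (side (d * c * d) ↔ ¬ side c) := by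
    intro c hc hdc
    simp only [side, hswap_r c hc hdc]
    split_ifs with h
    · obtain ⟨-, -, h3, h4⟩ := L.swap_mem hc₀ hdc₀
      rcases hfibre c₀ hc₀ hdc₀ c hc hdc h.symm with rfl | rfl
      · exact iff_of_false (fun e => h3 (e.symm ▸ Commute.refl _)) (fun e => e rfl)
      · exact iff_of_true h4 fun e => h3 (e.symm ▸ Commute.refl _)
    · rw [hother c hc hdc c₀ hc₀ hdc₀ h]
  have hside : ∀ c ∈ D, ¬ Commute d c → ∀ c' ∈ D, ¬ Commute d c' → r c ≠ r c' →
      (Commute c c' ↔ ¬ (side c ↔ side c')) := by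
    intro c hc hdc c' hc' hdc' hne
    simp only [side]
    by_cases h : r c = r c₀
    · have h' : r c' ≠ r c₀ := fun e => hne (h.trans e.symm)
      rw [if_pos h, if_neg h']
      rcases hfibre c₀ hc₀ hdc₀ c hc hdc h.symm with rfl | rfl
      · have := Commute.symm_iff (a := c') (b := c)
        tauto
      · have h3 := (L.swap_mem hc₀ hdc₀).2.2.1
        have hn : ¬ d * c₀ * d = c₀ := fun e => h3 (e.symm ▸ Commute.refl _)
        rw [hother c₀ hc₀ hdc₀ c' hc' hdc' (Ne.symm h')]
        have := Commute.symm_iff (a := c') (b := c₀)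
        tauto
    by_cases h' : r c' = r c₀
    · rw [if_neg h, if_pos h']
      rcases hfibre c₀ hc₀ hdc₀ c' hc' hdc' h'.symm with rfl | rfl
      · tauto
      · have h3 := (L.swap_mem hc₀ hdc₀).2.2.1
        have hn : ¬ d * c₀ * d = c₀ := fun e => h3 (e.symm ▸ Commute.refl _)
        rw [Commute.symm_iff, hother c₀ hc₀ hdc₀ c hc hdc (Ne.symm h)]
        have := Commute.symm_iff (a := c) (b := c₀)
        tauto
    rw [if_neg h, if_neg h']
    obtain ⟨y, hy, hy1, hy2, hy3⟩ := L.exists_avoid (r c) (r c') (r c₀)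
    obtain ⟨s, -, hs'⟩ := L.exists_sides hy
    have k : ∀ p ∈ D, ¬ Commute d p → r p ∉ f y → ∀ q ∈ D, ¬ Commute d q → r q ∉ f y → r p ≠ r q →
        (Commute p q ↔ s p ≠ s q) := fun p hp hdp hpy q hq hdq hqy hpq =>
      hs' p hp hdp ((hr p hp hdp y hy).2 hpy) q hq hdq ((hr q hq hdq y hy).2 hqy)
        (fun e => hpq (by rw [e])) fun e => hpq (by rw [e, hswap_r p hp hdp])
    rw [k c hc hdc hy1 c' hc' hdc' hy2 hne, k c hc hdc hy1 c₀ hc₀ hdc₀ hy3 h,
      k c' hc' hdc' hy2 c₀ hc₀ hdc₀ hy3 h']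
    cases s c <;> cases s c' <;> cases s c₀ <;> simp
  -- every point occurs
  have hall : ∀ t : Fin n, ∃ c ∈ D, ¬ Commute d c ∧ r c = t := by
    intro t
    by_cases ht : t = r c₀
    · exact ⟨c₀, hc₀, hdc₀, ht.symm⟩
    obtain ⟨x, hx, hfx⟩ := L.exists_pair (Ne.symm ht)
    have hxd : x * d * x⁻¹ = d := by rw [hx.2.2.symm.eq, mul_inv_cancel_right]
    have hcD : x * c₀ * x⁻¹ ∈ D := ThreeTr.conj_mem hcls x hc₀
    have hdc : ¬ Commute d (x * c₀ * x⁻¹) := fun e => hdc₀ ((conj_commute_iff x d c₀).1 (hxd.symm ▸ e))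
    refine ⟨_, hcD, hdc, ?_⟩
    have key : ∀ u, u ≠ t → u ≠ r c₀ → r (x * c₀ * x⁻¹) = t ∨ r (x * c₀ * x⁻¹) = u := by
      intro u hut hur
      obtain ⟨e, he, hfe⟩ := L.exists_pair (Ne.symm hut)
      have hxe : x * e * x ∈ perp D d := (L.setting.perpPrim d L.mem).closed x hx e he
      have hf : f (x * e * x) = {r c₀, u} := L.op hx he hfx hfe (Ne.symm ht) (Ne.symm hut) (Ne.symm hur)
      by_contra hh
      have hec : Commute e (x * c₀ * x⁻¹) := (hr _ hcD hdc e he).2 (by simpa [hfe] using hh)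
      have := (conj_commute_iff x e (x * c₀ * x⁻¹)).2 hec
      rw [inv_eq hcls.1 hx.1, invol_conj_conj (sq_eq_one hcls.1 hx.1)] at this
      exact (hr c₀ hc₀ hdc₀ _ hxe).1 this (by simp [hf])
    obtain ⟨u, u', hu, hu', huu⟩ := exists_two_outside (U := ({t, r c₀} : Finset (Fin n))) (by
      have := Finset.card_le_two (a := t) (b := r c₀); omega)
    simp only [Finset.mem_insert, Finset.mem_singleton, not_or] at hu hu'
    rcases key u hu.1 hu.2 with h | h
    · exact h
    rcases key u' hu'.1 hu'.2 with h' | h'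
    · exact h'
    · exact absurd (h.symm.trans h') huu
  -- the new labels
  let ι : Fin n → Fin (n + 2) := Fin.castAdd 2
  let N : Fin 2 → Fin (n + 2) := Fin.natAdd n
  let em : Fin n ↪ Fin (n + 2) := ⟨ι, Fin.castAdd_injective n 2⟩
  have hιN : ∀ i k, ι i ≠ N k := fun i k h => by
    have := congrArg Fin.val h
    simp [ι, N] at this; omega
  have hNN : ∀ {k k'}, N k = N k' → k = k' := fun h => Fin.natAdd_injective 2 n h
  have hcases : ∀ j : Fin (n + 2), (∃ i, j = ι i) ∨ ∃ k, j = N k := fun j =>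
    Fin.addCases (fun i => Or.inl ⟨i, rfl⟩) (fun k => Or.inr ⟨k, rfl⟩) j
  let sd : G → Fin 2 := fun c => if side c then 0 else 1
  have hsd : ∀ c c', (sd c = sd c' ↔ (side c ↔ side c')) := fun c c' => by
    by_cases h : side c <;> by_cases h' : side c' <;> simp [sd, h, h']
  let F : G → Finset (Fin (n + 2)) := fun x =>
    if x = d then {N 0, N 1} else if Commute d x then (f x).map em else {ι (r x), N (sd x)}
  have hFd : F d = {N 0, N 1} := if_pos rfl
  have hFe : ∀ e ∈ perp D d, F e = (f e).map em := fun e he => by simp only [F, if_neg he.2.1, if_pos he.2.2]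
  have hFc : ∀ c, ¬ Commute d c → F c = {ι (r c), N (sd c)} := fun c hdc => by
    simp only [F, if_neg (fun e : c = d => hdc (e ▸ Commute.refl d)), if_neg hdc]
  have hcase : ∀ x ∈ D, x = d ∨ x ∈ perp D d ∨ ¬ Commute d x := fun x hx => by
    by_cases h1 : x = d
    · exact Or.inl h1
    by_cases h2 : Commute d x
    · exact Or.inr (Or.inl ⟨hx, h1, h2⟩)
    · exact Or.inr (Or.inr h2)
  have hNe : ∀ e k, N k ∉ (f e).map em := fun e k h => by
    obtain ⟨i, -, hi⟩ := Finset.mem_map.1 h
    exact hιN i k hi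
  refine ⟨F, ⟨fun x hx => ?_, fun x hx y hy e => ?_, fun p hp => ?_⟩, fun x hx y hy hne => ?_⟩
  · rcases hcase x hx with rfl | h | h
    · rw [hFd]; exact Finset.card_pair fun e => by simpa using hNN e
    · rw [hFe x h]; show ((f x).map em).card = 2; rw [Finset.card_map, L.card h]
    · rw [hFc x h]; exact Finset.card_pair (hιN _ _)
  · rcases hcase x hx with rfl | h | h <;> rcases hcase y hy with rfl | h' | h'
    · rfl
    · rw [hFd, hFe y h'] at e
      exact absurd (e ▸ Finset.mem_insert_self (N 0) _) (hNe y 0)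
    · rw [hFd, hFc y h'] at e
      have : ι (r y) ∈ ({N 0, N 1} : Finset (Fin (n + 2))) := e.symm ▸ Finset.mem_insert_self _ _
      simp [hιN] at this
    · rw [hFd, hFe x h] at e
      exact absurd (e.symm ▸ Finset.mem_insert_self (N 0) _) (hNe x 0)
    · rw [hFe x h, hFe y h'] at e
      exact (L.eq_iff h h').1 (Finset.map_injective em e)
    · rw [hFe x h, hFc y h'] at e
      exact absurd (e.symm ▸ Finset.mem_insert_of_mem (Finset.mem_singleton_self _)) (hNe x (sd y))
    · rw [hFd, hFc x h] at e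
      have : ι (r x) ∈ ({N 0, N 1} : Finset (Fin (n + 2))) := e ▸ Finset.mem_insert_self _ _
      simp [hιN] at this
    · rw [hFc x h, hFe y h'] at e
      exact absurd (e ▸ Finset.mem_insert_of_mem (Finset.mem_singleton_self _)) (hNe y (sd x))
    · rw [hFc x h, hFc y h'] at e
      have h1 : ι (r x) ∈ ({ι (r y), N (sd y)} : Finset (Fin (n + 2))) := e ▸ Finset.mem_insert_self _ _
      have h2 : N (sd x) ∈ ({ι (r y), N (sd y)} : Finset (Fin (n + 2))) :=
        e ▸ Finset.mem_insert_of_mem (Finset.mem_singleton_self _)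
      simp [hιN, Ne.symm (hιN _ _)] at h1 h2
      have hrr : r x = r y := Fin.castAdd_injective n 2 h1
      have hss := (hsd x y).1 (hNN h2)
      rcases hfibre x hx h y hy h' hrr with h3 | h3
      · exact h3.symm
      · subst h3
        have := hside_swap x hx h
        tauto
  · obtain ⟨i, j, hij, rfl⟩ := Finset.card_eq_two.1 hp
    have hmix : ∀ i k, ∃ x ∈ D, F x = {ι i, N k} := by
      intro i k
      obtain ⟨c, hc, hdc, rfl⟩ := hall i
      by_cases hk : sd c = k
      · exact ⟨c, hc, by rw [hFc c hdc, hk]⟩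
      obtain ⟨h1, h2, -, -⟩ := L.swap_mem hc hdc
      refine ⟨_, h1, ?_⟩
      rw [hFc _ h2, hswap_r c hc hdc, show sd (d * c * d) = k from ?_]
      have : sd (d * c * d) ≠ sd c := fun e => by
        have := (hsd _ _).1 e
        have := hside_swap c hc hdc
        tauto
      omega
    rcases hcases i with ⟨a, rfl⟩ | ⟨a, rfl⟩ <;> rcases hcases j with ⟨b, rfl⟩ | ⟨b, rfl⟩
    · obtain ⟨e, he, hfe⟩ := L.exists_pair (fun h : a = b => hij (congrArg ι h))
      exact ⟨e, he.1, by rw [hFe e he, hfe]; simp [em]⟩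
    · exact hmix a b
    · obtain ⟨x, hx, hFx⟩ := hmix b a
      exact ⟨x, hx, hFx.trans (Finset.pair_comm _ _)⟩
    · refine ⟨d, L.mem, ?_⟩
      rw [hFd]
      fin_cases a <;> fin_cases b <;>
        first
          | exact absurd rfl hij
          | rfl
          | exact Finset.pair_comm _ _
  · have hde : ∀ e ∈ perp D d, Disjoint ({N 0, N 1} : Finset (Fin (n + 2))) ((f e).map em) := fun e _ => by
      simp [hNe]
    have hdc' : ∀ c, ¬ Disjoint ({N 0, N 1} : Finset (Fin (n + 2))) {ι (r c), N (sd c)} := fun c hd => by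
      have : N (sd c) ∈ ({N 0, N 1} : Finset (Fin (n + 2))) := by
        rcases (show sd c = 0 ∨ sd c = 1 by omega) with h | h <;> simp [h]
      exact Finset.disjoint_left.1 hd this (Finset.mem_insert_of_mem (Finset.mem_singleton_self _))
    have hec : ∀ e ∈ perp D d, ∀ c ∈ D, ¬ Commute d c →
        (Commute e c ↔ Disjoint ((f e).map em) {ι (r c), N (sd c)}) := fun e he c hc hdc => by
      rw [hr c hc hdc e he, Finset.disjoint_insert_right, Finset.disjoint_singleton_right]
      simp only [hNe, not_false_iff, and_true]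
      exact not_congr (Finset.mem_map' em).symm
    rcases hcase x hx with rfl | h | h <;> rcases hcase y hy with rfl | h' | h'
    · exact absurd rfl hne
    · rw [hFd, hFe y h']; exact iff_of_true h'.2.2 (hde y h')
    · rw [hFd, hFc y h']; exact iff_of_false h' (hdc' y)
    · rw [hFd, hFe x h]; exact iff_of_true h.2.2.symm (hde x h).symm
    · rw [hFe x h, hFe y h', Finset.disjoint_map]; exact L.comm x h y h' hne
    · rw [hFe x h, hFc y h']; exact hec x h y hy h'
    · rw [hFd, hFc x h]; exact iff_of_false (fun e => h e.symm) fun e => hdc' x e.symm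
    · rw [hFc x h, hFe y h', Commute.symm_iff, disjoint_comm]; exact hec y h' x hx h
    · rw [hFc x h, hFc y h']
      by_cases hrr : r x = r y
      · refine iff_of_false ?_ fun hd =>
          Finset.disjoint_left.1 hd (Finset.mem_insert_self _ _) (by rw [hrr]; exact Finset.mem_insert_self _ _)
        rcases hfibre x hx h y hy h' hrr with h3 | h3
        · exact absurd h3.symm hne
        · exact h3 ▸ (L.swap_mem hx h).2.2.1
      · rw [hside x hx h y hy h' hrr]
        simp only [Finset.disjoint_insert_left, Finset.disjoint_singleton_left, Finset.mem_insert,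
          Finset.mem_singleton, not_or]
        refine ⟨fun hh => ⟨⟨fun e => hrr (Fin.castAdd_injective n 2 e), hιN _ _⟩,
          fun e => hιN _ _ e.symm, fun e => hh ((hsd x y).1 (hNN e))⟩, fun hh e => hh.2.2 ?_⟩
        exact congrArg N ((hsd x y).2 e)

end Lab

/-- A perp set of kind S5 gives S7. -/
theorem stepSymFive : StepSymFive.{u} := by
  rintro G _ _ D hS d hd ⟨f, hf, hc⟩
  exact Lab.symLike (f := f) ⟨hS, hd, le_rfl, by norm_num, hf, hc⟩

/-- A perp set of kind S_n gives S_(n+2). -/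
theorem stepSym : StepSym.{u} := by
  rintro G _ _ D hS d hd n hn ⟨f, hf, hc⟩
  exact Lab.symLike (f := f) ⟨hS, hd, by omega, by omega, hf, hc⟩

end Cfsg.Lib.Fischer.SymStep
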