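import Cfsg.Agent.Fischer.Iface

/-!
Hermitian linear algebra over four elements for the exclusion of unitary perp sets: separation of isotropic points,
the model spaces in three and five dimensions and the product of four transvections used in dimension five.
-/

set_option autoImplicit false

namespace Cfsg.Lib.Fischer.ExclU

open Cfsg.Lib.PrimeGraph (KQuad)

theorem kq_sq_sq (a : KQuad) : (a ^ 2) ^ 2 = a := by
  revert a; simp only [KQuad.forall_iff]; decide +kernel

theorem kq_self (a : KQuad) : a + a = 0 := CharTwo.add_self_eq_zero a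

theorem kq_norm {a : KQuad} (ha : a ≠ 0) : a * a ^ 2 = 1 := by
  revert ha; revert a; simp only [KQuad.forall_iff]; decide +kernel

theorem kq_tr_eq_zero {a : KQuad} (h : a + a ^ 2 = 0) : a = 0 ∨ a = 1 := by
  revert h; revert a; simp only [KQuad.forall_iff]; decide +kernel

/-- A generator of the multiplicative group. -/
def om : KQuad := KQuad.ofCode 2

theorem om_ne_zero : om ≠ 0 := by decide +kernel
theorem om_ne_one : om ≠ 1 := by decide +kernel
theorem om_tr : om + om ^ 2 = 1 := by decide +kernel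

variable {n : ℕ} {m l : ℕ}

theorem herm_add_left (u v w : Fin n → KQuad) : herm (u + v) w = herm u w + herm v w := by
  simp [herm, add_mul, Finset.sum_add_distrib]

theorem herm_add_right (u v w : Fin n → KQuad) : herm u (v + w) = herm u v + herm u w := by
  simp [herm, CharTwo.add_sq, mul_add, Finset.sum_add_distrib]

theorem herm_smul_left (a : KQuad) (v w : Fin n → KQuad) : herm (a • v) w = a * herm v w := by
  simp [herm, Finset.mul_sum, mul_assoc]

theorem herm_smul_right (a : KQuad) (v w : Fin n → KQuad) : herm v (a • w) = a ^ 2 * herm v w := by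
  simp only [herm, Finset.mul_sum, Pi.smul_apply, smul_eq_mul, mul_pow]
  exact Finset.sum_congr rfl fun i _ => by ring

theorem herm_zero_left (w : Fin n → KQuad) : herm 0 w = 0 := by simp [herm]

theorem herm_zero_right (w : Fin n → KQuad) : herm w 0 = 0 := by simp [herm]

theorem herm_sq (v w : Fin n → KQuad) : herm w v = herm v w ^ 2 := by
  simp only [herm, CharTwo.sum_sq, mul_pow, kq_sq_sq]
  exact Finset.sum_congr rfl fun i _ => mul_comm _ _

theorem herm_symm_zero {v w : Fin n → KQuad} (h : herm v w = 0) : herm w v = 0 := by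
  rw [herm_sq, h]; exact zero_pow two_ne_zero

theorem herm_symm_one {v w : Fin n → KQuad} (h : herm v w = 1) : herm w v = 1 := by
  rw [herm_sq, h]; exact one_pow 2

theorem herm_self_cases (v : Fin n → KQuad) : herm v v = 0 ∨ herm v v = 1 := by
  have h : ∀ a : KQuad, a = a ^ 2 → a = 0 ∨ a = 1 := by simp only [KQuad.forall_iff]; decide +kernel
  exact h _ (herm_sq v v)

theorem herm_self_add (v w : Fin n → KQuad) :
    herm (v + w) (v + w) = herm v v + herm w w + (herm v w + herm v w ^ 2) := by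
  rw [herm_add_left, herm_add_right, herm_add_right, herm_sq v w]
  ring

theorem eq_zero_of_herm {v : Fin n → KQuad} (h : ∀ w, herm w v = 0) : v = 0 := by
  funext i
  have := h (Pi.single i 1)
  simp [herm, Pi.single_apply] at this
  exact this

theorem mem_span_one {a x : Fin n → KQuad} (h : x ∈ Submodule.span KQuad (Set.range ![a])) :
    ∃ s : KQuad, x = s • a := by
  obtain ⟨c, rfl⟩ := (Submodule.mem_span_range_iff_exists_fun _).1 h
  exact ⟨c 0, by simp⟩

theorem mem_span_two {a b x : Fin n → KQuad} (h : x ∈ Submodule.span KQuad (Set.range ![a, b])) :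
    ∃ s t : KQuad, x = s • a + t • b := by
  obtain ⟨c, rfl⟩ := (Submodule.mem_span_range_iff_exists_fun _).1 h
  exact ⟨c 0, c 1, by simp [Fin.sum_univ_two]⟩

theorem mem_span_three {a b c x : Fin n → KQuad} (h : x ∈ Submodule.span KQuad (Set.range ![a, b, c])) :
    ∃ r s t : KQuad, x = r • a + s • b + t • c := by
  obtain ⟨e, rfl⟩ := (Submodule.mem_span_range_iff_exists_fun _).1 h
  exact ⟨e 0, e 1, e 2, by simp [Fin.sum_univ_three]⟩

theorem mem_span_four {a b c d x : Fin n → KQuad} (h : x ∈ Submodule.span KQuad (Set.range ![a, b, c, d])) :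
    ∃ r s t u : KQuad, x = r • a + s • b + t • c + u • d := by
  obtain ⟨e, rfl⟩ := (Submodule.mem_span_range_iff_exists_fun _).1 h
  exact ⟨e 0, e 1, e 2, e 3, by simp [Fin.sum_univ_four]⟩

/-- The linear functional of a vector. -/
def hermL (x : Fin n → KQuad) : (Fin n → KQuad) →ₗ[KQuad] KQuad where
  toFun v := herm v x
  map_add' u v := herm_add_left u v x
  map_smul' a v := by simpa using herm_smul_left a v x

theorem exists_perp_not_mem (b : Fin m → Fin n → KQuad) (c : Fin l → Fin n → KQuad) (h : m + l < n) :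
    ∃ v, (∀ i, herm v (b i) = 0) ∧ v ∉ Submodule.span KQuad (Set.range c) := by
  by_contra hcon
  push Not at hcon
  have hle : (LinearMap.pi fun i => hermL (b i)).ker ≤ Submodule.span KQuad (Set.range c) := fun v hv =>
    hcon v fun i => congrFun (LinearMap.mem_ker.1 hv) i
  have h1 := Submodule.finrank_mono hle
  have h2 := finrank_range_le_card (R := KQuad) c
  have h3 := (LinearMap.pi fun i => hermL (b i)).finrank_range_add_finrank_ker
  have h4 := (LinearMap.pi fun i => hermL (b i)).range.finrank_le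
  simp only [Module.finrank_pi, Fintype.card_fin] at h3 h4 h2
  simp only [Set.finrank] at h2
  omega

theorem exists_perp_one (b : Fin m → Fin n → KQuad) (u : Fin n → KQuad)
    (hu : u ∉ Submodule.span KQuad (Set.range b)) : ∃ v, (∀ i, herm v (b i) = 0) ∧ herm v u = 1 := by
  by_cases h : ∃ v, (∀ i, herm v (b i) = 0) ∧ herm v u ≠ 0
  · obtain ⟨v, hv, hvu⟩ := h
    exact ⟨(herm v u)⁻¹ • v, fun i => by rw [herm_smul_left, hv i, mul_zero],
      by rw [herm_smul_left, inv_mul_cancel₀ hvu]⟩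
  · push Not at h
    refine absurd ?_ hu
    have hk : (⨅ i, (hermL (b i)).ker) ≤ (hermL u).ker := fun v hv => by
      simp only [Submodule.mem_iInf, LinearMap.mem_ker] at hv ⊢
      exact h v hv
    obtain ⟨c, hc⟩ := (Submodule.mem_span_range_iff_exists_fun _).1 (mem_span_of_iInf_ker_le_ker hk)
    refine (Submodule.mem_span_range_iff_exists_fun _).2 ⟨fun i => c i ^ 2, ?_⟩
    refine sub_eq_zero.1 (eq_zero_of_herm fun w => ?_)
    show hermL _ w = 0
    have hw : ∀ (x y : Fin n → KQuad), herm w (x - y) = herm w x + herm w y := fun x y => by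
      rw [sub_eq_add_neg, ← neg_one_smul KQuad y, herm_add_right, herm_smul_right]
      simp
    have hsum : herm w (∑ i, c i ^ 2 • b i) = ∑ i, c i * herm w (b i) := by
      classical
      induction (Finset.univ : Finset (Fin m)) using Finset.induction with
      | empty => simp [herm_zero_right]
      | insert i s hi ih =>
        rw [Finset.sum_insert hi, Finset.sum_insert hi, herm_add_right, herm_smul_right, kq_sq_sq, ih]
    show herm w _ = 0
    rw [hw, hsum]
    have := LinearMap.congr_fun hc w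
    simp [hermL] at this
    rw [this, kq_self]

theorem exists_norm_one (b : Fin m → Fin n → KQuad) {k : Fin n → KQuad} (hk : ∀ i, herm k (b i) = 0)
    (hks : k ∉ Submodule.span KQuad (Set.range b)) : ∃ e, (∀ i, herm e (b i) = 0) ∧ herm e e = 1 := by
  rcases herm_self_cases k with h0 | h1
  · obtain ⟨l, hl, hlk⟩ := exists_perp_one b k hks
    rcases herm_self_cases l with hl0 | hl1
    · refine ⟨k + om • l, fun i => ?_, ?_⟩
      · rw [herm_add_left, herm_smul_left, hk, hl]; ring
      · rw [herm_self_add, h0, herm_smul_left, herm_smul_right, herm_smul_right, hl0, herm_symm_one hlk, mul_one,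
          kq_sq_sq, add_comm (om ^ 2), om_tr]
        ring
    · exact ⟨l, hl, hl1⟩
  · exact ⟨k, hk, h1⟩

theorem exists_iso_adjust {x s : Fin n → KQuad} (hx : herm x x = 0) (hs : herm s x = 1) :
    ∃ c : KQuad, herm (s + c • x) (s + c • x) = 0 := by
  rcases herm_self_cases s with h | h
  · exact ⟨0, by simpa using h⟩
  · refine ⟨om, ?_⟩
    rw [herm_self_add, h, herm_smul_left, herm_smul_right, herm_smul_right, hx, hs, mul_one, kq_sq_sq,
      add_comm (om ^ 2), om_tr]
    simp [kq_self]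

theorem exists_iso_perp (b : Fin m → Fin n → KQuad) (h : 2 * m + 1 < n) :
    ∃ v, (∀ i, herm v (b i) = 0) ∧ v ∉ Submodule.span KQuad (Set.range b) ∧ herm v v = 0 := by
  obtain ⟨k, hk, hks⟩ := exists_perp_not_mem b b (by omega)
  rcases herm_self_cases k with hk0 | hk1
  · exact ⟨k, hk, hks, hk0⟩
  obtain ⟨l, hl, hls⟩ := exists_perp_not_mem (Fin.cons k b) b (by omega)
  have hlk : herm l k = 0 := by simpa using hl 0
  have hlb : ∀ i, herm l (b i) = 0 := fun i => by simpa using hl i.succ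
  rcases herm_self_cases l with hl0 | hl1
  · exact ⟨l, hlb, hls, hl0⟩
  refine ⟨k + l, fun i => by rw [herm_add_left, hk, hlb, add_zero], fun hmem => ?_, ?_⟩
  · obtain ⟨c, hc⟩ := (Submodule.mem_span_range_iff_exists_fun _).1 hmem
    have h0 : herm (∑ i, c i • b i) k = 0 := by
      show hermL k _ = 0
      rw [map_sum]
      exact Finset.sum_eq_zero fun i _ => by
        show herm (c i • b i) k = 0
        rw [herm_smul_left, herm_symm_zero (hk i), mul_zero]
    rw [hc, herm_add_left, hk1, hlk, add_zero] at h0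
    exact one_ne_zero h0
  · rw [herm_self_add, hk1, hl1, herm_symm_zero hlk]
    simp [kq_self]

/-- Isotropic vectors orthogonal to a noncommuting pair see everything outside its line. -/
theorem exists_sep_pair (hn : 5 ≤ n) {v w u : Fin n → KQuad} (hv : herm v v = 0) (hw : herm w w = 0)
    (hvw : herm v w ≠ 0) (hu : u ∉ Submodule.span KQuad (Set.range ![v, w])) :
    ∃ s, herm s s = 0 ∧ herm s v = 0 ∧ herm s w = 0 ∧ herm s u ≠ 0 := by
  obtain ⟨k, hk, hku⟩ := exists_perp_one ![v, w] u hu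
  have hkv : herm k v = 0 := hk 0
  have hkw : herm k w = 0 := hk 1
  rcases herm_self_cases k with h0 | h1
  · exact ⟨k, h0, hkv, hkw, by rw [hku]; exact one_ne_zero⟩
  obtain ⟨j, hj, hj0⟩ := exists_perp_not_mem ![v, w, k] ![(0 : Fin n → KQuad)] (by omega)
  have hj' : j ≠ 0 := by rintro rfl; exact hj0 (zero_mem _)
  have hwv : herm w v ≠ 0 := fun e => hvw (herm_symm_zero e)
  obtain ⟨e, he, he1⟩ := exists_norm_one ![v, w, k] hj fun hm => hj' (by
    obtain ⟨r, s, t, rfl⟩ := mem_span_three hm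
    have hr : r = 0 := by
      have := hj 1
      simpa [herm_add_left, herm_smul_left, hw, hkw, hvw] using this
    have hs : s = 0 := by
      have := hj 0
      simpa [herm_add_left, herm_smul_left, hv, hkv, hwv] using this
    have ht : t = 0 := by
      have := hj 2
      simpa [herm_add_left, herm_smul_left, hr, hs, h1] using this
    simp [hr, hs, ht])
  have hek : herm e k = 0 := he 2
  have hev : herm e v = 0 := he 0
  have hew : herm e w = 0 := he 1
  have hiso : ∀ c : KQuad, c ≠ 0 → herm (k + c • e) (k + c • e) = 0 := fun c hc => by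
    rw [herm_self_add, h1, herm_smul_left, herm_smul_right, herm_smul_right, herm_symm_zero hek, he1, mul_one,
      kq_norm hc]
    simp [kq_self]
  by_cases h : 1 + herm e u = 0
  · refine ⟨k + om • e, hiso om om_ne_zero, ?_, ?_, fun h' => ?_⟩
    · rw [herm_add_left, herm_smul_left, hkv, hev]; ring
    · rw [herm_add_left, herm_smul_left, hkw, hew]; ring
    · rw [herm_add_left, herm_smul_left, hku, ← CharTwo.add_eq_zero.1 h, mul_one] at h'
      exact om_ne_one (CharTwo.add_eq_zero.1 h').symm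
  · refine ⟨k + e, by simpa using hiso 1 one_ne_zero, ?_, ?_, by rwa [herm_add_left, hku]⟩
    · rw [herm_add_left, hkv, hev, add_zero]
    · rw [herm_add_left, hkw, hew, add_zero]

/-- Isotropic vectors orthogonal to two commuting points see every third one outside their line. -/
theorem exists_sep_class {y a b : Fin n → KQuad} (hyb : herm b y = 0) (hb : herm b b = 0) (hab : herm b a = 0)
    (h : b ∉ Submodule.span KQuad (Set.range ![y, a])) :
    ∃ s, herm s s = 0 ∧ herm s y = 0 ∧ herm s a = 0 ∧ herm s b = 1 := by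
  obtain ⟨s, hs, hsb⟩ := exists_perp_one ![y, a] b h
  obtain ⟨c, hc⟩ := exists_iso_adjust hb hsb
  refine ⟨s + c • b, hc, ?_, ?_, ?_⟩
  · rw [herm_add_left, herm_smul_left, hyb, show herm s y = 0 from hs 0]; ring
  · rw [herm_add_left, herm_smul_left, hab, show herm s a = 0 from hs 1]; ring
  · rw [herm_add_left, herm_smul_left, hb, hsb]; ring

/-- The transvection at an isotropic vector. -/
def tv (a v : Fin n → KQuad) : Fin n → KQuad := v + herm v a • a

theorem tv_smul (a v : Fin n → KQuad) (c : KQuad) : tv a (c • v) = c • tv a v := by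
  simp [tv, herm_smul_left, smul_add, smul_smul]

theorem tv_smul_center {c : KQuad} (hc : c ≠ 0) (a v : Fin n → KQuad) : tv (c • a) v = tv a v := by
  simp only [tv, herm_smul_right, smul_smul]
  congr 2
  rw [mul_right_comm, mul_comm (c ^ 2) c, kq_norm hc, one_mul]

/-- The three isotropic points of the line of a noncommuting pair. -/
theorem line_cases {v w u : Fin n → KQuad} (hv : herm v v = 0) (hw : herm w w = 0) (hvw : herm w v ≠ 0)
    (hu : herm u u = 0) (hu0 : u ≠ 0) (hm : u ∈ Submodule.span KQuad (Set.range ![v, w])) :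
    ∃ c : KQuad, c ≠ 0 ∧ (u = c • v ∨ u = c • w ∨ u = c • tv v w) := by
  obtain ⟨a, b, rfl⟩ := mem_span_two hm
  by_cases hb : b = 0
  · subst hb
    exact ⟨a, fun h => hu0 (by simp [h]), Or.inl (by simp)⟩
  set r := a * b⁻¹
  have ha : a = b * r := by simp [r, hb, mul_comm a]
  rw [ha, ← smul_smul, ← smul_add] at hu ⊢
  rw [herm_smul_left, herm_smul_right] at hu
  have h' : herm (r • v + w) (r • v + w) = 0 :=
    (mul_eq_zero.1 ((mul_eq_zero.1 hu).resolve_left hb)).resolve_left (pow_ne_zero 2 hb)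
  rw [herm_self_add, herm_smul_left, herm_smul_right, herm_smul_left, hv, hw, mul_zero, mul_zero, zero_add,
    zero_add] at h'
  rcases kq_tr_eq_zero h' with h0 | h1
  · refine ⟨b, hb, Or.inr (Or.inl ?_)⟩
    rw [(mul_eq_zero.1 h0).resolve_right fun e => hvw (herm_symm_zero e), zero_smul, zero_add]
  · refine ⟨b, hb, Or.inr (Or.inr ?_)⟩
    have hr : r = herm w v := by
      have h2 := kq_norm (a := herm v w) fun e => hvw (herm_symm_zero e)
      rw [← herm_sq] at h2
      calc r = r * (herm v w * herm w v) := by rw [h2, mul_one]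
        _ = herm w v := by rw [← mul_assoc, h1, one_mul]
    rw [tv, hr, add_comm w]

/-! ### Model spaces -/

/-- A hyperbolic pair and a unit vector. -/
structure Frame3 (Z A e : Fin n → KQuad) : Prop where
  ZZ : herm Z Z = 0
  AA : herm A A = 0
  ZA : herm Z A = 1
  Ze : herm Z e = 0
  Ae : herm A e = 0
  ee : herm e e = 1

/-- Two hyperbolic pairs and a unit vector. -/
structure Frame5 (Z A e Y W : Fin n → KQuad) : Prop extends Frame3 Z A e where
  YY : herm Y Y = 0
  WW : herm W W = 0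
  YW : herm Y W = 1
  ZY : herm Z Y = 0
  AY : herm A Y = 0
  eY : herm e Y = 0
  ZW : herm Z W = 0
  AW : herm A W = 0
  eW : herm e W = 0

def H3 (v w : Fin 3 → KQuad) : KQuad := v 0 * w 1 ^ 2 + v 1 * w 0 ^ 2 + v 2 * w 2 ^ 2

def tv3 (a v : Fin 3 → KQuad) : Fin 3 → KQuad := v + H3 v a • a

def phi (Z A e : Fin n → KQuad) (x : Fin 3 → KQuad) : Fin n → KQuad := x 0 • Z + x 1 • A + x 2 • e

theorem phi_smul (Z A e : Fin n → KQuad) (a : KQuad) (x : Fin 3 → KQuad) :
    phi Z A e (a • x) = a • phi Z A e x := by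
  simp only [phi, Pi.smul_apply, smul_eq_mul, smul_add, smul_smul]

theorem herm_phi {Z A e : Fin n → KQuad} (F : Frame3 Z A e) (x y : Fin 3 → KQuad) :
    herm (phi Z A e x) (phi Z A e y) = H3 x y := by
  simp only [phi, herm_add_left, herm_add_right, herm_smul_left, herm_smul_right, F.ZZ, F.AA, F.ZA, F.Ze, F.Ae,
    F.ee, herm_symm_one F.ZA, herm_symm_zero F.Ze, herm_symm_zero F.Ae, H3]
  ring

theorem tv_phi {Z A e : Fin n → KQuad} (F : Frame3 Z A e) (a x : Fin 3 → KQuad) :
    tv (phi Z A e a) (phi Z A e x) = phi Z A e (tv3 a x) := by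
  rw [tv, herm_phi F]
  simp only [phi, tv3, Pi.add_apply, Pi.smul_apply, smul_eq_mul, add_smul, smul_add, smul_smul]
  abel

def reps : Fin 9 → Fin 3 → KQuad :=
  ![![1, 0, 0], ![0, 1, 0], ![om ^ 2, 1, 1], ![1, 1, 0], ![om, 1, 1], ![1, om ^ 2, om], ![1, om, om ^ 2],
    ![om, 1, om], ![om ^ 2, 1, om ^ 2]]

theorem reps_cover : ∀ x : Fin 3 → KQuad, x ≠ 0 → H3 x x = 0 → ∃ i, ∃ a : KQuad, a ≠ 0 ∧ x = a • reps i := by
  decide +kernel

theorem reps_derive : tv3 (reps 1) (reps 0) = reps 3 ∧ tv3 (reps 2) (reps 0) = reps 4 ∧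
    tv3 (reps 2) (reps 1) = reps 5 ∧ tv3 (om ^ 2 • reps 4) (reps 1) = reps 6 ∧
    tv3 (reps 3) (om • reps 2) = reps 7 ∧ tv3 (reps 6) (om • reps 2) = reps 8 := by decide +kernel

/-- All points of the model plane follow from three by taking third points on lines. -/
theorem gen_three {P : (Fin 3 → KQuad) → Prop} (hs : ∀ (a : KQuad) x, a ≠ 0 → P x → P (a • x))
    (ht : ∀ a x, P a → P x → P (tv3 a x)) (h0 : P (reps 0)) (h1 : P (reps 1)) (h2 : P (reps 2))
    {x : Fin 3 → KQuad} (hx : x ≠ 0) (hi : H3 x x = 0) : P x := by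
  obtain ⟨e3, e4, e5, e6, e7, e8⟩ := reps_derive
  have h3 : P (reps 3) := e3 ▸ ht _ _ h1 h0
  have h4 : P (reps 4) := e4 ▸ ht _ _ h2 h0
  have h5 : P (reps 5) := e5 ▸ ht _ _ h2 h1
  have h6 : P (reps 6) := e6 ▸ ht _ _ (hs _ _ (pow_ne_zero 2 om_ne_zero) h4) h1
  have h7 : P (reps 7) := e7 ▸ ht _ _ h3 (hs _ _ om_ne_zero h2)
  have h8 : P (reps 8) := e8 ▸ ht _ _ h6 (hs _ _ om_ne_zero h2)
  obtain ⟨i, a, ha, rfl⟩ := reps_cover x hx hi
  refine hs a _ ha ?_
  fin_cases i <;> assumption

def H5 (v w : Fin 5 → KQuad) : KQuad :=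
  v 0 * w 1 ^ 2 + v 1 * w 0 ^ 2 + v 2 * w 2 ^ 2 + v 3 * w 4 ^ 2 + v 4 * w 3 ^ 2

def tv5 (a v : Fin 5 → KQuad) : Fin 5 → KQuad := v + H5 v a • a

theorem tv5_smul (a v : Fin 5 → KQuad) (c : KQuad) : tv5 a (c • v) = c • tv5 a v := by
  have : H5 (c • v) a = c * H5 v a := by simp only [H5, Pi.smul_apply, smul_eq_mul]; ring
  simp [tv5, this, smul_add, smul_smul]

theorem tv5_add (a v w : Fin 5 → KQuad) : tv5 a (v + w) = tv5 a v + tv5 a w := by
  have : H5 (v + w) a = H5 v a + H5 w a := by simp only [H5, Pi.add_apply]; ring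
  simp only [tv5, this, add_smul]
  abel

def psi (Z A e Y W : Fin n → KQuad) (x : Fin 5 → KQuad) : Fin n → KQuad :=
  x 0 • Z + x 1 • A + x 2 • e + x 3 • Y + x 4 • W

theorem psi_smul (Z A e Y W : Fin n → KQuad) (a : KQuad) (x : Fin 5 → KQuad) :
    psi Z A e Y W (a • x) = a • psi Z A e Y W x := by
  simp only [psi, Pi.smul_apply, smul_eq_mul, smul_add, smul_smul]

theorem herm_psi {Z A e Y W : Fin n → KQuad} (F : Frame5 Z A e Y W) (x y : Fin 5 → KQuad) :
    herm (psi Z A e Y W x) (psi Z A e Y W y) = H5 x y := by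
  simp only [psi, herm_add_left, herm_add_right, herm_smul_left, herm_smul_right, F.ZZ, F.AA, F.ZA, F.Ze, F.Ae,
    F.ee, F.YY, F.WW, F.YW, F.ZY, F.AY, F.eY, F.ZW, F.AW, F.eW, herm_symm_one F.ZA, herm_symm_one F.YW,
    herm_symm_zero F.Ze, herm_symm_zero F.Ae, herm_symm_zero F.ZY, herm_symm_zero F.AY, herm_symm_zero F.eY,
    herm_symm_zero F.ZW, herm_symm_zero F.AW, herm_symm_zero F.eW, H5]
  ring

theorem tv_psi {Z A e Y W : Fin n → KQuad} (F : Frame5 Z A e Y W) (a x : Fin 5 → KQuad) :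
    tv (psi Z A e Y W a) (psi Z A e Y W x) = psi Z A e Y W (tv5 a x) := by
  rw [tv, herm_psi F]
  simp only [psi, tv5, Pi.add_apply, Pi.smul_apply, smul_eq_mul, add_smul, smul_add, smul_smul]
  abel

theorem H5_nondeg : ∀ x : Fin 5 → KQuad,
    H5 x (Pi.single 1 1) = x 0 ∧ H5 x (Pi.single 0 1) = x 1 ∧ H5 x (Pi.single 2 1) = x 2 ∧
      H5 x (Pi.single 4 1) = x 3 ∧ H5 x (Pi.single 3 1) = x 4 := by
  intro x
  refine ⟨?_, ?_, ?_, ?_, ?_⟩ <;> simp [H5]

theorem psi_injective {Z A e Y W : Fin n → KQuad} (F : Frame5 Z A e Y W) :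
    Function.Injective (psi Z A e Y W) := by
  intro x y h
  have hk : ∀ i, H5 x i = H5 y i := fun i => by rw [← herm_psi F, ← herm_psi F, h]
  obtain ⟨a0, a1, a2, a3, a4⟩ := H5_nondeg x
  obtain ⟨b0, b1, b2, b3, b4⟩ := H5_nondeg y
  funext i
  fin_cases i
  · exact a0.symm.trans ((hk _).trans b0)
  · exact a1.symm.trans ((hk _).trans b1)
  · exact a2.symm.trans ((hk _).trans b2)
  · exact a3.symm.trans ((hk _).trans b3)
  · exact a4.symm.trans ((hk _).trans b4)

/-- Four transvections whose product fixes a plane and two of its lines but shifts a fifth point. -/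
def cs : Fin 4 → Fin 5 → KQuad :=
  ![![0, 0, 1, 1, om], ![1, 0, om, om ^ 2, 1], ![1, 0, 1, 1, om], ![1, 0, om, 1, om]]

def kmap (v : Fin 5 → KQuad) : Fin 5 → KQuad := tv5 (cs 3) (tv5 (cs 2) (tv5 (cs 1) (tv5 (cs 0) v)))

theorem kmap_smul (v : Fin 5 → KQuad) (c : KQuad) : kmap (c • v) = c • kmap v := by simp [kmap, tv5_smul]

theorem kmap_add (v w : Fin 5 → KQuad) : kmap (v + w) = kmap v + kmap w := by simp [kmap, tv5_add]

theorem kmap_facts : (∀ i, H5 (cs i) (cs i) = 0 ∧ cs i ≠ 0) ∧
    kmap ![0, 0, 0, 1, 0] = ![0, 0, 0, 1, 0] ∧ kmap ![1, 0, 0, 0, 0] = ![1, 0, 0, 0, 0] ∧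
    kmap ![0, 0, 1, 1, om] = ![om, 0, 1, 1, om] ∧ H5 ![0, 0, 1, 1, om] ![0, 0, 1, 1, om] = 0 ∧
    H5 ![0, 0, 1, 1, om] ![1, 0, 0, 0, 0] = 0 ∧
    ∀ x : Fin 3 → KQuad, kmap ![x 0, x 1, x 2, 0, 0] 3 = 0 ∧ kmap ![x 0, x 1, x 2, 0, 0] 4 = 0 := by
  decide +kernel

theorem chain_facts : H3 ![1, 0, 0] ![0, 1, 0] = 1 ∧ H3 ![0, 1, 0] ![1, om, 1] = 1 ∧
    H3 ![1, om, 1] ![om, 0, 0] = 1 ∧ H3 ![1, om, 1] ![1, om, 1] = 0 := by
  decide +kernel

end Cfsg.Lib.Fischer.ExclU
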