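import Cfsg.Agent.Fischer.Branch
import Cfsg.Agent.Fischer.ExclULinear

/-!
Unitary perp sets: the members of a trace commuting with one of its members meet every point of the quotient of the
orthogonal space by that member exactly once, are closed under third points and are stable under whatever fixes them.
-/

set_option autoImplicit false
set_option linter.unusedSectionVars false

namespace Cfsg.Lib.Fischer.ExclU

open Cfsg Subgroup Cfsg.Lib.ThreeTr
open Cfsg.Lib.PrimeGraph (KQuad)

universe u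

variable {G : Type u} [Group G] [Finite G]

/-- A primitive class and unitary coordinates on the neighbours of a member. -/
structure Ctx (D : Set G) (d : G) {n : ℕ} (f : G → Fin n → KQuad) : Prop where
  setting : Setting D
  hd : d ∈ D
  hn : 5 ≤ n
  co : Coords (perp D d) (fun v => v ≠ 0 ∧ herm v v = 0) herm f

/-- The members of a trace commuting with a further member. -/
def piece (D : Set G) (d c y : G) : Set G := common D d c ∩ perp D y

variable {D : Set G} {d c y : G} {n : ℕ} {f : G → Fin n → KQuad}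

theorem Ctx.cls (K : Ctx D d f) : IsThreeTranspositionClass D := K.setting.rich.cls

theorem Ctx.ne_zero (K : Ctx D d f) {x : G} (hx : x ∈ perp D d) : f x ≠ 0 := (K.co.mem x hx).1

theorem Ctx.iso (K : Ctx D d f) {x : G} (hx : x ∈ perp D d) : herm (f x) (f x) = 0 := (K.co.mem x hx).2

theorem Ctx.comm_iff (K : Ctx D d f) {x e : G} (hx : x ∈ perp D d) (he : e ∈ perp D d) :
    Commute x e ↔ herm (f x) (f e) = 0 := by
  rcases eq_or_ne x e with rfl | h
  · exact iff_of_true (Commute.refl x) (K.iso hx)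
  · exact K.co.comm x hx e he h

theorem Ctx.member (K : Ctx D d f) {v : Fin n → KQuad} (hv : v ≠ 0) (hi : herm v v = 0) :
    ∃ x ∈ perp D d, ∃ a : KQuad, a ≠ 0 ∧ v = a • f x := K.co.surj v ⟨hv, hi⟩

theorem Ctx.eq_of_smul (K : Ctx D d f) {x e : G} (hx : x ∈ perp D d) (he : e ∈ perp D d) {a : KQuad}
    (h : f e = a • f x) : x = e := K.co.inj x hx e he a h

/-- A member of a vector commutes with those orthogonal to it. -/
theorem Ctx.commute_of_rep (K : Ctx D d f) {s : Fin n → KQuad} {x e : G} {a : KQuad} (ha : a ≠ 0)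
    (hx : x ∈ perp D d) (hs : s = a • f x) (he : e ∈ perp D d) : Commute x e ↔ herm s (f e) = 0 := by
  rw [K.comm_iff hx he, hs, herm_smul_left, mul_eq_zero, or_iff_right ha]

/-- Conjugation by a member acts as its transvection. -/
theorem Ctx.conj_member (K : Ctx D d f) {x e : G} (hx : x ∈ perp D d) (he : e ∈ perp D d) :
    x * e * x ∈ perp D d ∧ ∃ a : KQuad, a ≠ 0 ∧ f (x * e * x) = a • tv (f x) (f e) := by
  have hmem := perp_closed K.cls hx he
  refine ⟨hmem, ?_⟩
  have hxx := sq_eq_one K.cls.1 hx.1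
  by_cases hc : Commute x e
  · refine ⟨1, one_ne_zero, ?_⟩
    rw [show x * e * x = e by rw [hc.eq, mul_assoc, hxx, mul_one], tv, herm_symm_zero ((K.comm_iff hx he).1 hc)]
    simp
  have hne : herm (f e) (f x) ≠ 0 := fun h => hc ((K.comm_iff hx he).2 (herm_symm_zero h))
  have hspan : f (x * e * x) ∈ Submodule.span KQuad (Set.range ![f x, f e]) := by
    by_contra hcon
    obtain ⟨s, hss, hsx, hse, hsu⟩ :=
      exists_sep_pair K.hn (K.iso hx) (K.iso he) (fun h => hne (herm_symm_zero h)) hcon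
    obtain ⟨w, hw, a, ha, hsw⟩ := K.member (v := s) (by rintro rfl; exact hsu (herm_zero_left _)) hss
    have h1 : Commute w x := (K.commute_of_rep ha hw hsw hx).2 hsx
    have h2 : Commute w e := (K.commute_of_rep ha hw hsw he).2 hse
    exact hsu ((K.commute_of_rep ha hw hsw hmem).1 ((h1.mul_right h2).mul_right h1))
  obtain ⟨a, ha, h | h | h⟩ := line_cases (K.iso hx) (K.iso he) hne (K.iso hmem) (K.ne_zero hmem) hspan
  · have e1 := K.eq_of_smul hx hmem h
    refine absurd (Commute.refl x) (fun _ => hc ?_)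
    have h2 : e = x := by
      calc e = x * (x * e * x) * x := (invol_conj_conj hxx e).symm
        _ = x := by rw [← e1, mul_assoc, hxx, mul_one]
    rw [h2]
  · have e1 := K.eq_of_smul he hmem h
    refine absurd ?_ hc
    calc x * e = x * e * (x * x) := by rw [hxx, mul_one]
      _ = e * x := by rw [← mul_assoc, ← e1]
  · exact ⟨a, ha, h⟩

/-- Twins among the neighbours of `e` differ by a multiple of `e`. -/
theorem Ctx.span_of_twins (K : Ctx D d f) {e a b : G} (he : e ∈ perp D d) (ha : a ∈ perp (perp D d) e)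
    (hb : b ∈ perp (perp D d) e) (h : ∀ z ∈ perp (perp D d) e, Commute z a ↔ Commute z b) :
    ∃ s t : KQuad, f b = s • f a + t • f e := by
  have hab : herm (f b) (f a) = 0 := herm_symm_zero ((K.comm_iff ha.1 hb.1).1 ((h a ha).1 (Commute.refl a)))
  have hbe : herm (f b) (f e) = 0 := (K.comm_iff hb.1 he).1 hb.2.2.symm
  by_contra hcon
  push Not at hcon
  obtain ⟨s, hss, hse, hsa, hsb⟩ := exists_sep_class (a := f a) hbe (K.iso hb.1) hab fun hm => by
    obtain ⟨r, t, hrt⟩ := mem_span_two hm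
    exact hcon t r (hrt.trans (add_comm _ _))
  obtain ⟨w, hw, l, hl, hsw⟩ := K.member (v := s) (by rintro rfl; exact zero_ne_one ((herm_zero_left _).symm.trans hsb)) hss
  have hwe : w ≠ e := by
    rintro rfl
    rw [hsw, herm_smul_left, herm_symm_zero hbe, mul_zero] at hsb
    exact zero_ne_one hsb
  have hwp : w ∈ perp (perp D d) e := ⟨hw, hwe, ((K.commute_of_rep hl hw hsw he).2 hse).symm⟩
  have := (K.commute_of_rep hl hw hsw hb.1).1 ((h w hwp).1 ((K.commute_of_rep hl hw hsw ha.1).2 hsa))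
  exact one_ne_zero (hsb.symm.trans this)

/-- Members differing by a multiple of `e` are twins among the neighbours of `e`. -/
theorem Ctx.twins_of_span (K : Ctx D d f) {e a b : G} (he : e ∈ perp D d) (ha : a ∈ perp (perp D d) e)
    (hb : b ∈ perp (perp D d) e) {s t : KQuad} (h : f b = s • f a + t • f e) :
    ∀ z ∈ perp (perp D d) e, Commute z a ↔ Commute z b := by
  intro z hz
  have hs : s ≠ 0 := by
    rintro rfl
    rw [zero_smul, zero_add] at h
    exact hb.2.1 (K.eq_of_smul he hb.1 h).symm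
  rw [K.comm_iff hz.1 ha.1, K.comm_iff hz.1 hb.1, h, herm_add_right, herm_smul_right, herm_smul_right,
    (K.comm_iff hz.1 he).1 hz.2.2.symm, mul_zero, add_zero, mul_eq_zero, or_iff_right (pow_ne_zero 2 hs)]

theorem mem_perp_perp {e z : G} : z ∈ perp (perp D d) e ↔ z ∈ perp D e ∧ z ∈ perp D d :=
  ⟨fun h => ⟨⟨h.1.1, h.2⟩, h.1⟩, fun h => ⟨h.2, h.1.2⟩⟩

theorem piece_mem {x : G} (hx : x ∈ piece D d c y) : x ∈ perp (perp D d) y :=
  ⟨hx.1.1, hx.2.2⟩

theorem mem_piece_of {x : G} (hx : x ∈ common D d c) (hne : x ≠ y) (hc : Commute y x) :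
    x ∈ piece D d c y := ⟨hx, hx.1.1, hne, hc⟩

variable (hc : c ∈ D) (hdc : ¬ Commute d c) (hy : y ∈ common D d c)
include hc hdc hy

/-- Two members of the piece in one class are equal. -/
theorem Ctx.section_eq (K : Ctx D d f) {a b : G} (ha : a ∈ piece D d c y) (hb : b ∈ piece D d c y) {s t : KQuad}
    (h : f b = s • f a + t • f y) : a = b := by
  obtain ⟨g, -, hp, hq, hpq, hperp, hcom⟩ := exists_view K.setting.rich K.hd hc hdc hy
  set p := g * d * g⁻¹
  set q := g * c * g⁻¹
  have hai := (hcom a).2 ha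
  have hbi := (hcom b).2 hb
  obtain ⟨s', t', h'⟩ := K.span_of_twins hp hai.1 hbi.1 fun z hz => by
    have hzz : g * (g⁻¹ * z * g) * g⁻¹ = z := by group
    have h1 : g⁻¹ * z * g ∈ perp D y := (hperp _).1 (by rw [hzz]; exact hz.1)
    have h2 : Commute d (g⁻¹ * z * g) := (conj_commute_iff g d _).1 (by rw [hzz]; exact hz.2.2)
    have h3 : g⁻¹ * z * g ≠ d := fun e => hz.2.1 (by rw [← hzz, e])
    have := K.twins_of_span hy.1 (piece_mem ha) (piece_mem hb) h _ (mem_perp_perp.2 ⟨h1, h1.1, h3, h2⟩)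
    rw [← conj_commute_iff g _ a, ← conj_commute_iff g _ b, hzz] at this
    exact this
  have e0 : herm (f (g * b * g⁻¹)) (f q) = 0 := (K.comm_iff hbi.1.1 hq).1 hbi.2.2.2.symm
  have e1 : herm (f (g * a * g⁻¹)) (f q) = 0 := (K.comm_iff hai.1.1 hq).1 hai.2.2.2.symm
  rw [h', herm_add_left, herm_smul_left, herm_smul_left, e1, mul_zero, zero_add, mul_eq_zero,
    or_iff_left fun e => hpq ((K.comm_iff hp hq).2 e)] at e0
  rw [e0, zero_smul, add_zero] at h'
  exact conj_image_injective g (K.eq_of_smul hai.1.1 hbi.1.1 h')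

/-- Every point of the quotient is met. -/
theorem Ctx.lift (K : Ctx D d f) {v : Fin n → KQuad} (hi : herm v v = 0) (hvy : herm v (f y) = 0)
    (hns : ∀ t : KQuad, v ≠ t • f y) : ∃ x ∈ piece D d c y, ∃ a t : KQuad, a ≠ 0 ∧ f x = a • v + t • f y := by
  obtain ⟨g, -, hp, hq, hpq, hperp, hcom⟩ := exists_view K.setting.rich K.hd hc hdc hy
  set p := g * d * g⁻¹
  set q := g * c * g⁻¹
  obtain ⟨e, he, l, hl, hve⟩ := K.member (v := v) (fun h => hns 0 (by rw [h, zero_smul])) hi
  have hey : e ∈ perp (perp D d) y := by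
    refine ⟨he, fun h => hns l (by rw [hve, h]), ?_⟩
    exact ((K.commute_of_rep hl he hve hy.1).2 hvy).symm
  obtain ⟨hey1, -⟩ := mem_perp_perp.1 hey
  set e' := g * e * g⁻¹
  have he' : e' ∈ perp D d := (hperp e).2 hey1
  have hep : Commute p e' := (conj_commute_iff g d e).2 he.2.2
  have henp : e' ≠ p := fun h => he.2.1 (conj_image_injective g h)
  have hpq0 : herm (f p) (f q) ≠ 0 := fun h => hpq ((K.comm_iff hp hq).2 h)
  set γ := herm (f e') (f q) * (herm (f p) (f q))⁻¹
  set s := f e' + γ • f p with hs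
  have hsp : herm s (f p) = 0 := by
    rw [hs, herm_add_left, herm_smul_left, K.iso hp, (K.comm_iff he' hp).1 hep.symm]; ring
  have hsq : herm s (f q) = 0 := by
    rw [hs, herm_add_left, herm_smul_left, mul_assoc, inv_mul_cancel₀ hpq0, mul_one, kq_self]
  have hss : herm s s = 0 := by
    rw [hs, herm_self_add, K.iso he', herm_smul_left, herm_smul_right, herm_smul_right, K.iso hp,
      (K.comm_iff he' hp).1 hep.symm]
    simp
  have hs0 : s ≠ 0 := fun h => henp (K.eq_of_smul hp he' (a := γ) (funext fun i => CharTwo.add_eq_zero.1 (congrFun h i))).symm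
  obtain ⟨w, hw, m, hm, hsw⟩ := K.member hs0 hss
  have hwp : Commute w p := (K.commute_of_rep hm hw hsw hp).2 hsp
  have hwq : Commute w q := (K.commute_of_rep hm hw hsw hq).2 hsq
  have hwc : w ∈ common (perp D d) p q :=
    ⟨⟨hw, fun h => hpq (h ▸ hwq), hwp.symm⟩, hw, fun h => hpq ((h ▸ hwp).symm), hwq.symm⟩
  have hww : g * (g⁻¹ * w * g) * g⁻¹ = w := by group
  set x := g⁻¹ * w * g
  have hx : x ∈ piece D d c y := (hcom x).1 (by rw [hww]; exact hwc)
  refine ⟨x, hx, ?_⟩
  have hwf : f w = m⁻¹ • f e' + (m⁻¹ * γ) • f p := by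
    rw [← smul_smul, ← smul_add, ← hs, hsw, smul_smul, inv_mul_cancel₀ hm, one_smul]
  have htw := K.twins_of_span hp (e := p) (a := e') (b := w) ⟨he', henp, hep⟩ ⟨hw, hwc.1.2⟩ hwf
  obtain ⟨s', t', h'⟩ := K.span_of_twins hy.1 hey (piece_mem hx) fun z hz => by
    obtain ⟨hz1, hz2⟩ := mem_perp_perp.1 hz
    have := htw (g * z * g⁻¹) ⟨(hperp z).2 hz1, fun h => hz2.2.1 (conj_image_injective g h),
      (conj_commute_iff g d z).2 hz2.2.2⟩
    rwa [← hww, conj_commute_iff g z e, conj_commute_iff g z x] at this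
  refine ⟨s' * l⁻¹, t', mul_ne_zero ?_ (inv_ne_zero hl), ?_⟩
  · rintro rfl
    rw [zero_smul, zero_add] at h'
    exact hx.2.2.1 (K.eq_of_smul hy.1 hx.1.1 h').symm
  · rw [h', hve, smul_smul, inv_mul_cancel_right₀ hl]

/-- The piece is closed under third points. -/
theorem Ctx.piece_closed (K : Ctx D d f) {a b : G} (ha : a ∈ piece D d c y) (hb : b ∈ piece D d c y) :
    a * b * a ∈ piece D d c y :=
  ⟨⟨perp_closed K.cls ha.1.1 hb.1.1, perp_closed K.cls ha.1.2 hb.1.2⟩, perp_closed K.cls ha.2 hb.2⟩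

/-- What fixes `d`, `y` and the piece fixes the trace. -/
theorem Ctx.stable (K : Ctx D d f) {k : G} (hkd : Commute k d) (hky : k * y * k⁻¹ = y)
    (hk : ∀ x ∈ piece D d c y, k * x * k⁻¹ ∈ piece D d c y) {w : G} (hw : w ∈ common D d c) :
    k * w * k⁻¹ ∈ common D d c := by
  have hD := K.cls
  set c' := k * c * k⁻¹
  have hkdd : k * d * k⁻¹ = d := by rw [hkd.eq, mul_inv_cancel_right]
  have himg : ∀ x, k * x * k⁻¹ ∈ common D d c' ↔ x ∈ common D d c := by
    intro x
    have hiff : ∀ z, k * x * k⁻¹ ∈ perp D (k * z * k⁻¹) ↔ x ∈ perp D z := fun z => by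
      rw [← conj_image_perp hD k z]
      exact ⟨fun ⟨u, hu, h⟩ => conj_image_injective k h ▸ hu, fun h => ⟨x, h, rfl⟩⟩
    exact and_congr (by simpa [hkdd] using hiff d) (hiff c)
  have hc' : c' ∈ D := ThreeTr.conj_mem hD k hc
  have hdc' : ¬ Commute d c' := fun h => hdc ((conj_commute_iff k d c).1 (by rw [hkdd]; exact h))
  have hpiece : piece D d c' y = piece D d c y := by
    have hi : piece D d c' y = (fun x => k * x * k⁻¹) '' piece D d c y := by
      ext z
      have hz : k * (k⁻¹ * z * k) * k⁻¹ = z := by group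
      have hp : ∀ x, k * x * k⁻¹ ∈ perp D y ↔ x ∈ perp D y := fun x => by
        conv_lhs => rw [← hky, ← conj_image_perp hD k y]
        exact ⟨fun ⟨u, hu, h⟩ => conj_image_injective k h ▸ hu, fun h => ⟨x, h, rfl⟩⟩
      constructor
      · intro h
        refine ⟨k⁻¹ * z * k, ⟨(himg _).1 (by rw [hz]; exact h.1), (hp _).1 (by rw [hz]; exact h.2)⟩, hz⟩
      · rintro ⟨x, hx, rfl⟩
        exact ⟨(himg x).2 hx.1, (hp x).2 hx.2⟩
    rw [hi]
    refine Set.eq_of_subset_of_ncard_le ?_ ?_ (Set.toFinite _)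
    · rintro _ ⟨x, hx, rfl⟩; exact hk x hx
    · rw [Set.ncard_image_of_injective _ (conj_image_injective k)]
  have hyc' : y ∈ perp D c' := by
    have := ((himg y).2 hy).2
    rwa [hky] at this
  obtain ⟨g, -, hp, hq, hpq, hperp, hcom⟩ := exists_view K.setting.rich K.hd hc hdc hy
  set p := g * d * g⁻¹
  set q := g * c * g⁻¹
  have hq' : g * c' * g⁻¹ ∈ perp D d := (hperp c').2 (mem_perp_comm hc' hyc')
  have hspan : f (g * c' * g⁻¹) ∈ Submodule.span KQuad (Set.range ![f p, f q]) := by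
    by_contra hcon
    obtain ⟨s, hss, hsp, hsq, hsu⟩ :=
      exists_sep_pair K.hn (K.iso hp) (K.iso hq) (fun h => hpq ((K.comm_iff hp hq).2 h)) hcon
    obtain ⟨u, hu, a, ha, hsu'⟩ := K.member (v := s) (by rintro rfl; exact hsu (herm_zero_left _)) hss
    have hup : Commute u p := (K.commute_of_rep ha hu hsu' hp).2 hsp
    have huq : Commute u q := (K.commute_of_rep ha hu hsu' hq).2 hsq
    have huc : u ∈ common (perp D d) p q :=
      ⟨⟨hu, fun h => hpq (h ▸ huq), hup.symm⟩, hu, fun h => hpq ((h ▸ hup).symm), huq.symm⟩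
    have huu : g * (g⁻¹ * u * g) * g⁻¹ = u := by group
    have hx : g⁻¹ * u * g ∈ piece D d c y := (hcom _).1 (by rw [huu]; exact huc)
    rw [← hpiece] at hx
    have := (conj_commute_iff g _ c').2 hx.1.2.2.2.symm
    rw [huu] at this
    exact hsu ((K.commute_of_rep ha hu hsu' hq').1 this)
  have hc'mem : k * w * k⁻¹ ∈ common D d c' := (himg w).2 hw
  obtain ⟨a, ha, h | h | h⟩ := line_cases (K.iso hp) (K.iso hq)
    (fun e => hpq ((K.comm_iff hp hq).2 (herm_symm_zero e))) (K.iso hq') (K.ne_zero hq') hspan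
  · exact absurd (conj_image_injective g (K.eq_of_smul hp hq' h) ▸ Commute.refl d) hdc'
  · rwa [← conj_image_injective g (K.eq_of_smul hq hq' h)] at hc'mem
  · obtain ⟨hm, b, hb, hpqp⟩ := K.conj_member hp hq
    have e1 : p * q * p = g * c' * g⁻¹ := K.eq_of_smul hm hq' (a := a * b⁻¹) (by
      rw [hpqp, h, smul_smul, inv_mul_cancel_right₀ hb])
    have e2 : d * c * d = c' := conj_image_injective g (by
      show g * (d * c * d) * g⁻¹ = g * c' * g⁻¹
      rw [← e1]; simp only [p, q]; group)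
    rw [← e2] at hc'mem
    obtain ⟨h1, h2⟩ := hc'mem
    have hdd := sq_eq_one hD.1 K.hd
    refine ⟨h1, h1.1, fun e => hdc (e ▸ h1.2.2), ?_⟩
    have := (h1.2.2.symm.mul_right h2.2.2.symm).mul_right h1.2.2.symm
    rw [invol_conj_conj hdd c] at this
    exact this.symm

/-- The vectors of members of the piece. -/
def InPiece (D : Set G) (d c y : G) (f : G → Fin n → KQuad) (v : Fin n → KQuad) : Prop :=
  ∃ x ∈ piece D d c y, ∃ a : KQuad, a ≠ 0 ∧ v = a • f x

end Cfsg.Lib.Fischer.ExclU
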