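import Cfsg.Agent.Fischer.Branch
import Cfsg.Agent.Classical.Symp.Decomp

/-!
The induction, from the pieces.
-/

set_option autoImplicit false
set_option linter.unusedSectionVars false

namespace Cfsg.Lib.Fischer

open Cfsg Subgroup Cfsg.Lib.ThreeTr
open Cfsg.Lib.PrimeGraph (KQuad)

universe u

variable {G : Type u} [Group G] {S : Set G}

set_option synthInstance.maxSize 1024 in
theorem SpLike.four_le (P : Prim S) {n : ℕ} (h : SpLike S n) : 4 ≤ n := by
  obtain ⟨B, hA, hB, f, hf⟩ := h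
  obtain ⟨m, b, hdim, -⟩ := Cfsg.Lib.Classical.exists_symplectic_basis_nondegenerate hA hB
  rw [Module.finrank_fin_fun] at hdim
  by_contra hn
  obtain ⟨a, ha, c, hc, hne, hac⟩ := P.pair
  have hv := hf.mem a ha
  have hn2 : n = 2 := by
    rcases (show n = 0 ∨ n = 2 by omega) with rfl | rfl
    · exact absurd (Subsingleton.elim (f a) 0) hv
    · rfl
  subst hn2
  have hcv := hf.mem c hc
  have hvc : f a ≠ f c := fun e => hne (hf.inj a ha c hc 1 (by rw [one_smul]; exact e.symm))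
  have h0 : B (f a) (f c) = 0 := (hf.comm a ha c hc hne).1 hac
  refine hv (hB.1 _ fun w => ?_)
  have hspan : ∀ u v w : Fin 2 → ZMod 2, v ≠ 0 → u ≠ 0 → u ≠ v →
      w = 0 ∨ w = u ∨ w = v ∨ w = u + v := by decide
  rcases hspan (f a) (f c) w hcv hv hvc with rfl | rfl | rfl | rfl
  · simp
  · exact hA (f a)
  · exact h0
  · rw [map_add, hA (f a), h0, add_zero]

theorem ULike.four_le_of_pair (hp : ∃ a ∈ S, ∃ b ∈ S, a ≠ b ∧ Commute a b) {n : ℕ} (h : ULike S n) : 4 ≤ n := by
  obtain ⟨f, hf⟩ := h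
  obtain ⟨a, ha, c, hc, hne, hac⟩ := hp
  by_contra hn
  have key : ∀ n : Fin 4, ∀ v w : Fin (n : ℕ) → KQuad, v ≠ 0 → w ≠ 0 → herm v v = 0 → herm w w = 0 →
      herm v w = 0 → ∃ k : KQuad, w = k • v := by decide +kernel
  obtain ⟨k, hk⟩ := key ⟨n, by omega⟩ (f a) (f c) (hf.mem a ha).1 (hf.mem c hc).1 (hf.mem a ha).2 (hf.mem c hc).2
    ((hf.comm a ha c hc hne).1 hac)
  exact hne (hf.inj a ha c hc k hk)

theorem ULike.four_le (P : Prim S) {n : ℕ} (h : ULike S n) : 4 ≤ n := h.four_le_of_pair P.pair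

theorem OLike.even {n : ℕ} (h : OLike S n) : Even n := by
  obtain ⟨Q, hQ, -⟩ := h
  obtain ⟨m, b, hdim, -⟩ := Cfsg.Lib.Classical.exists_symplectic_basis_nondegenerate
    (B := QuadraticMap.polarBilin Q) (fun v => by
      show QuadraticMap.polar Q v v = 0
      rw [QuadraticMap.polar_self, two_smul]; exact CharTwo.add_self_eq_zero _) hQ
  rw [Module.finrank_fin_fun] at hdim
  exact ⟨m, by omega⟩

/-- The pieces of the induction. -/
structure Pieces : Prop where
  symFive : StepSymFive.{u}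
  sym : StepSym.{u}
  sp : StepSp.{u}
  exclO : ExclO.{u}
  exclU : ExclU.{u}
  refl : StepR.{u}
  uSix : StepUSix.{u}
  mTwentyTwo : StepMTwentyTwo.{u}
  mTwentyThree : StepMTwentyThree.{u}
  exclM : ExclMTwentyFour.{u}
  coinc : Coincidences.{u}

/-- A known kind among primitive neighbours determines the class. -/
theorem Pieces.step (H : Pieces.{u}) {G : Type u} [Group G] [Finite G] {D : Set G} (hS : Setting D) {d : G}
    (hd : d ∈ D) (hk : Kind (perp D d)) : Big D := by
  have P := hS.perpPrim d hd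
  have hR : ∀ n δ, 5 ≤ n → RLike (perp D d) n δ → Big D := fun n δ hn h =>
    Or.inr (Or.inr (Or.inl ⟨n + 1, δ, by omega, H.refl G D hS d hd n δ hn h⟩))
  have hSym : ∀ n, 7 ≤ n → SymLike (perp D d) n → Big D := fun n hn h =>
    Or.inl ⟨n + 2, by omega, H.sym G D hS d hd n hn h⟩
  rcases hk with h | ⟨n, h⟩ | ⟨n, h⟩ | ⟨n, hn, h⟩ | ⟨n, hn, h⟩ | ⟨n, δ, hn, h⟩ | h | h | h
  · exact Or.inl ⟨7, le_rfl, H.symFive G D hS d hd h⟩
  · have hn := h.four_le P
    obtain ⟨m, hm, hO⟩ := H.sp G D hS d hd n hn h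
    exact Or.inr (Or.inl ⟨m, by omega, hO⟩)
  · have hn := h.four_le P
    rcases (show n = 4 ∨ n = 6 ∨ (5 ≤ n ∧ n ≠ 6) by omega) with rfl | rfl | ⟨h5, h6⟩
    · exact hR 5 1 le_rfl ((H.coinc G _).2.1 h)
    · exact Or.inr (Or.inr (Or.inr (Or.inl (H.uSix G D hS d hd h))))
    · exact absurd h (H.exclU G D hS d hd n h5 h6)
  · exact hSym n hn h
  · rcases (show n = 6 ∨ n = 7 ∨ 8 ≤ n by omega) with rfl | rfl | h8
    · rcases (H.coinc G _).2.2 h with h' | h'
      · exact hSym 8 (by norm_num) h'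
      · exact hR 5 _ le_rfl h'
    · exact absurd h.even (by decide)
    · exact absurd h (H.exclO G D hS d hd n h8)
  · exact hR n δ (by omega) h
  · exact Or.inr (Or.inr (Or.inr (Or.inr (Or.inl (H.mTwentyTwo G D hS d hd h)))))
  · exact Or.inr (Or.inr (Or.inr (Or.inr (Or.inr (H.mTwentyThree G D hS d hd h)))))
  · exact absurd h (H.exclM G D hS d hd)

theorem ncard_perp_lt {G : Type u} [Group G] [Finite G] {D : Set G} {d : G} (hd : d ∈ D) :
    (perp D d).ncard < D.ncard :=
  Set.ncard_lt_ncard (Set.ssubset_iff_of_subset (fun _ h => h.1) |>.2 ⟨d, hd, fun h => h.2.1 rfl⟩) (Set.toFinite _)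

/-- Fischer's theorem on the level of graphs. -/
theorem Pieces.main (H : Pieces.{u}) : MainStatement.{u} := by
  suffices ∀ N : ℕ, ∀ (G : Type u) [Group G] [Finite G] (D : Set G), D.ncard = N → Rich D → center G = ⊥ → Kind D from
    fun G _ _ D hR hZ => this _ G D rfl hR hZ
  intro N
  induction N using Nat.strong_induction_on with
  | _ N ih =>
    intro G _ _ D hN hR hZ
    obtain ⟨d, hd, -⟩ := hR.cls.2.1
    rcases perp_cases hR hZ hd with P | h | h | h
    · refine Or.inr (Or.inr (Or.inr (H.step (setting_of_prim hR hZ hd P) hd ?_)))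
      obtain ⟨Q, _, _, E, f, hRE, hZE, hf, -⟩ := P.exists_quotient
      refine hf.kind (ih E.ncard ?_ Q E rfl hRE hZE)
      rw [← hN, ← hf.bij.image_eq, hf.bij.injOn.ncard_image]
      exact ncard_perp_lt hd
    exacts [Or.inl h, Or.inr (Or.inl h), Or.inr (Or.inr (Or.inl h))]

/-- With primitive neighbours the class is one of the big kinds. -/
theorem Pieces.big (H : Pieces.{u}) {G : Type u} [Group G] [Finite G] {D : Set G} (hS : Setting D) : Big D := by
  obtain ⟨d, hd, -⟩ := hS.rich.cls.2.1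
  exact H.step hS hd ((hS.perpPrim d hd).kind H.main)

end Cfsg.Lib.Fischer
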